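import Mathlib.GroupTheory.SpecificGroups.Alternating
import Mathlib.Tactic

/-!
Facts about involutions of the alternating group of degree five.
-/

set_option autoImplicit false
set_option maxRecDepth 100000

namespace CfsgLib.KnownA.OneSevenFive

/-- The alternating group. -/
abbrev A5 : Type := alternatingGroup (Fin 5)

/-- `(12)(34)` -/
def pU : A5 := ⟨Equiv.swap 0 1 * Equiv.swap 2 3, Equiv.Perm.mem_alternatingGroup.2 (by decide +kernel)⟩
/-- `(13)(24)` -/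
def pV : A5 := ⟨Equiv.swap 0 2 * Equiv.swap 1 3, Equiv.Perm.mem_alternatingGroup.2 (by decide +kernel)⟩
/-- `(12)(35)` -/
def pW : A5 := ⟨Equiv.swap 0 1 * Equiv.swap 2 4, Equiv.Perm.mem_alternatingGroup.2 (by decide +kernel)⟩

/-- The values of the letters `1, 2, 3`. -/
def pLetters (i : ℕ) : A5 := if i = 1 then pU else if i = 2 then pV else if i = 3 then pW else 1

/-- The value of a word. -/
def pWord (L : List ℕ) : A5 := (L.map pLetters).prod

/-- The words for the four elements inverting in the second case. -/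
def zWords : List (List ℕ) := [[2, 3, 2, 3, 2], [1, 2, 3, 2, 3, 1, 2], [3, 2, 3], [1, 3, 2, 3, 1]]

/-- The word normalising the four-group. -/
def dWord : List ℕ := [3, 2, 3, 1, 2, 3]

/-- All involutions. -/
def invList : List A5 :=
  [pU, pV, pW, pWord [1, 2], pWord [3, 2, 3], pWord [3, 1, 3], pWord [3, 1, 2, 3],
   pWord [2, 3, 2], pWord [1, 2, 3, 2, 1], pWord [1, 3, 2, 3, 1], pWord [2, 3, 1, 3, 2],
   pWord [2, 3, 2, 3, 2], pWord [2, 3, 1, 2, 3, 2], pWord [1, 3, 1, 2, 3, 1],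
   pWord [1, 2, 3, 2, 3, 1, 2], pWord [3, 1, 2, 3, 1, 2, 3]]

theorem mem_invList : ∀ g : A5, g * g = 1 → g ≠ 1 → g ∈ invList := by decide +kernel

theorem invList_conj : ∀ g ∈ invList, ∀ h ∈ invList, ∃ c : A5, c * g * c⁻¹ = h := by decide +kernel

theorem pattern_table : ∀ T ∈ invList, ∀ B ∈ invList, ∀ Z ∈ invList,
    T * B = B * T → T ≠ B → (T * Z) ^ 5 = 1 → T ≠ Z →
    ((B * Z) ^ 3 = 1 ∧ (T * B * Z) ^ 5 = 1) ∨
      ((B * (Z * T * Z)) ^ 3 = 1 ∧ (T * B * (Z * T * Z)) ^ 5 = 1) := by decide +kernel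

theorem cycle_table : ∀ T ∈ invList, ∀ B ∈ invList, ∀ Z ∈ invList,
    T * B = B * T → T ≠ B → (T * Z) ^ 5 = 1 → (B * Z) ^ 3 = 1 → (T * B * Z) ^ 5 = 1 →
    T * (Z * T * Z * T * B * Z) = (Z * T * Z * T * B * Z) * B ∧
      B * (Z * T * Z * T * B * Z) = (Z * T * Z * T * B * Z) * (T * B) := by decide +kernel

theorem z_table : ∀ Z ∈ invList, (pU * Z) ^ 5 = 1 → (pV * Z) ^ 5 = 1 → (pU * pV * Z) ^ 3 = 1 →
    ∃ l ∈ zWords, Z = pWord l := by decide +kernel

theorem d_table : (pWord dWord)⁻¹ * pU * pWord dWord = pU * pV ∧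
    (pWord dWord)⁻¹ * pV * pWord dWord = pU := by decide +kernel

theorem relations : ∀ V ∈ [pV, pU * pV], pU * pU = 1 ∧ pU ≠ 1 ∧ V * V = 1 ∧ V ≠ 1 ∧ pW * pW = 1 ∧
    pU * V = V * pU ∧ pU ≠ V ∧ (pU * pW) ^ 3 = 1 ∧ pU * pW ≠ 1 ∧ (V * pW) ^ 5 = 1 ∧
    (pU * V * pW) ^ 5 = 1 := by decide +kernel

end CfsgLib.KnownA.OneSevenFive
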