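import Cfsg.Agent.Lib.KnownA.OneSevenFive.Invol
import Cfsg.Agent.Lib.Geom.SimpleSixty
import Cfsg.Agent.S3669
import Mathlib.GroupTheory.Transfer

/-!
The centralizers of elements of order five and three and of the involutions.
-/

set_option autoImplicit false

namespace CfsgLib.KnownA.OneSevenFive

open scoped _root_.Classical

universe u

/-- The derived subgroup of the centralizer of an element. -/
def Aof {G : Type u} [Group G] (t : G) : Subgroup G :=
  ⁅Subgroup.centralizer ({t} : Set G), Subgroup.centralizer ({t} : Set G)⁆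

theorem Aof_conj {G : Type u} [Group G] (g t : G) :
    (Aof t).map (MulAut.conj g).toMonoidHom = Aof (g * t * g⁻¹) := by
  have h : (Subgroup.centralizer ({t} : Set G)).map (MulAut.conj g).toMonoidHom =
      Subgroup.centralizer ({g * t * g⁻¹} : Set G) := by
    ext y
    simp only [Subgroup.mem_map, MulEquiv.coe_toMonoidHom, MulAut.conj_apply,
      Subgroup.mem_centralizer_singleton_iff]
    constructor
    · rintro ⟨z, hz, rfl⟩
      calc g * z * g⁻¹ * (g * t * g⁻¹) = g * (z * t) * g⁻¹ := by group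
        _ = g * (t * z) * g⁻¹ := by rw [hz]
        _ = g * t * g⁻¹ * (g * z * g⁻¹) := by group
    · intro hy
      refine ⟨g⁻¹ * y * g, ?_, by group⟩
      calc g⁻¹ * y * g * t = g⁻¹ * (y * (g * t * g⁻¹)) * g := by group
        _ = g⁻¹ * ((g * t * g⁻¹) * y) * g := by rw [hy]
        _ = t * (g⁻¹ * y * g) := by group
  rw [Aof, Subgroup.map_commutator, h]
  rfl

theorem conj_mem_Aof {G : Type u} [Group G] {g t a : G} (h : a ∈ Aof t) :
    g * a * g⁻¹ ∈ Aof (g * t * g⁻¹) := by
  rw [← Aof_conj]; exact ⟨a, h, rfl⟩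

variable {G : Type u} [Group G] [Finite G] [IsSimpleGroup G]

/-- An element of order five commutes with exactly three involutions. -/
theorem card_invol_commute_five (hn : Nat.card G = 175560) {x : G} (hx : orderOf x = 5) :
    Nat.card {s : G // orderOf s = 2 ∧ s * x = x * s} = 3 := by
  have : Fact (Nat.Prime 5) := ⟨by norm_num⟩
  obtain ⟨hC, hd⟩ := (numbers hn).2.2 x hx
  obtain ⟨K, hKc, hKx, -, hK⟩ := exists_compl (c := 6) hx hC (by norm_num)
  have : Fintype {s : G // orderOf s = 2 ∧ s * x = x * s} := Fintype.ofFinite _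
  have e : Option {s : G // orderOf s = 2 ∧ s * x = x * s} ≃
      {g : G // g * x = x * g ∧ ¬ 5 ∣ orderOf g ∧ ¬ 3 ∣ orderOf g} :=
    { toFun := fun o => o.elim ⟨1, by simp⟩ fun s =>
        ⟨s.1, s.2.2, by rw [s.2.1]; norm_num, by rw [s.2.1]; norm_num⟩
      invFun := fun g => if h : g.1 = 1 then none else some ⟨g.1, by
        refine ⟨?_, g.2.1⟩
        have h6 : orderOf g.1 ∣ 6 := hKc ▸ Subgroup.orderOf_dvd_natCard _ ((hK g.1 g.2.1).2 g.2.2.1)
        have hle : orderOf g.1 ≤ 6 := Nat.le_of_dvd (by norm_num) h6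
        have h1 : orderOf g.1 ≠ 1 := fun e => h (orderOf_eq_one_iff.1 e)
        have h3 := g.2.2.2
        interval_cases hh : orderOf g.1 <;> simp_all⟩
      left_inv := fun o => by
        rcases o with _ | ⟨s, hs, hs'⟩
        · simp
        · have : s ≠ 1 := fun h => by simp [h] at hs
          simp [this]
      right_inv := fun g => by
        by_cases h : g.1 = 1
        · apply Subtype.ext; simp [h]
        · apply Subtype.ext; simp [h] }
  have h := Nat.card_congr e
  rw [show Nat.card {g : G // g * x = x * g ∧ ¬ 5 ∣ orderOf g ∧ ¬ 3 ∣ orderOf g} = 4 from hd,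
    Finite.card_option] at h
  omega

/-- Commuting elements of orders two and three do not both centralize an element of order five. -/
theorem no_six_five (hn : Nat.card G = 175560) {x a b : G} (hx : orderOf x = 5) (ha : orderOf a = 3)
    (hb : orderOf b = 2) (hxa : a * x = x * a) (hxb : b * x = x * b) (hab : a * b = b * a) : False := by
  have : Fact (Nat.Prime 5) := ⟨by norm_num⟩
  obtain ⟨hC, hd⟩ := (numbers hn).2.2 x hx
  obtain ⟨K, hKc, hKx, -, hK⟩ := exists_compl (c := 6) hx hC (by norm_num)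
  have hpos := (hK a hxa).2 (by rw [ha]; norm_num)
  have hbK := (hK b hxb).2 (by rw [hb]; norm_num)
  have hab6 : orderOf (a * b) = 6 := by
    rw [(show Commute a b from hab).orderOf_mul_eq_mul_orderOf_of_coprime (by rw [ha, hb]; norm_num),
      ha, hb]
  -- four regular elements avoiding three elements of order divisible by three
  let f : {g : G // g * x = x * g ∧ ¬ 5 ∣ orderOf g ∧ ¬ 3 ∣ orderOf g} ⊕ Fin 3 → K :=
    Sum.elim (fun g => ⟨g.1, (hK g.1 g.2.1).2 g.2.2.1⟩)
      ![⟨a, hpos⟩, ⟨a⁻¹, inv_mem hpos⟩, ⟨a * b, mul_mem hpos hbK⟩]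
  have hai : a ≠ a⁻¹ := fun h => by
    have : a ^ 2 = 1 := by rw [pow_two]; nth_rw 1 [h]; exact inv_mul_cancel a
    have := orderOf_dvd_of_pow_eq_one this
    rw [ha] at this; norm_num at this
  have hab1 : a * b ≠ a := fun h => by rw [h, ha] at hab6; norm_num at hab6
  have hab2 : a * b ≠ a⁻¹ := fun h => by rw [h, orderOf_inv, ha] at hab6; norm_num at hab6
  have hf : Function.Injective f := by
    refine Function.Injective.sumElim (fun p q h => Subtype.ext (congrArg (fun z : K => (z : G)) h)) ?_ ?_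
    · intro i j h
      have h' := congrArg (fun z : K => (z : G)) h
      fin_cases i <;> fin_cases j <;> simp [hai, hai.symm, hab1, hab1.symm, hab2, hab2.symm] at h' ⊢
    · intro p i h
      have h' : p.1 = _ := congrArg (fun z : K => (z : G)) h
      have hp := p.2.2.2
      rw [h'] at hp
      fin_cases i <;> simp [ha, hab6] at hp
  have h := Nat.card_le_card_of_injective f hf
  rw [Nat.card_sum, show Nat.card {g : G // g * x = x * g ∧ ¬ 5 ∣ orderOf g ∧ ¬ 3 ∣ orderOf g} = 4 from hd,
    Nat.card_fin, hKc] at h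
  omega

theorem card_centralizer_three (hn : Nat.card G = 175560) {a : G} (ha : orderOf a = 3) :
    Nat.card (Subgroup.centralizer ({a} : Set G)) = 30 :=
  (exists_sel hn).2.2.2.2.2 a ha

/-- No element of order ten centralizes an element of order three. -/
theorem no_ten_three (hn : Nat.card G = 175560) {a g : G} (ha : orderOf a = 3) (hg : orderOf g = 10)
    (hag : g * a = a * g) : False := by
  have h2 : orderOf (g ^ 2) = 5 := by rw [orderOf_pow_of_dvd two_ne_zero (by rw [hg]; norm_num), hg]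
  have h5 : orderOf (g ^ 5) = 2 := by rw [orderOf_pow_of_dvd (by norm_num) (by rw [hg]; norm_num), hg]
  exact no_six_five hn h2 ha h5 (((show Commute g a from hag).pow_left 2).eq.symm)
    ((Commute.refl g).pow_pow 5 2).eq (((show Commute g a from hag).pow_left 5).eq.symm)

/-- Two elements of order five centralizing an element of order three generate one subgroup. -/
theorem five_mem_zpowers (hn : Nat.card G = 175560) {a f f' : G} (ha : orderOf a = 3)
    (hf : orderOf f = 5) (hf' : orderOf f' = 5) (hfa : f * a = a * f) (hf'a : f' * a = a * f') :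
    f' ∈ Subgroup.zpowers f := by
  have : Fact (Nat.Prime 3) := ⟨Nat.prime_three⟩
  obtain ⟨K, hKc, hKx, -, hK⟩ := exists_compl (c := 10) ha (card_centralizer_three hn ha) (by norm_num)
  have hfK := (hK f hfa).2 (by rw [hf]; norm_num)
  have hf'K := (hK f' hf'a).2 (by rw [hf']; norm_num)
  have hidx : (Subgroup.zpowers (⟨f, hfK⟩ : K)).index = 2 := by
    have h := (Subgroup.zpowers (⟨f, hfK⟩ : K)).card_mul_index
    rw [Nat.card_zpowers, Subgroup.orderOf_mk, hf, hKc] at h
    omega
  obtain ⟨i, hi⟩ := Subgroup.sq_mem_of_index_two hidx (⟨f', hf'K⟩ : K)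
  have hsq : f ^ i = f' ^ 2 := by
    have h := congrArg (fun z : K => (z : G)) hi
    simpa using h
  refine ⟨i * 3, ?_⟩
  show f ^ (i * 3) = f'
  rw [zpow_mul, hsq]
  have e : f' ^ 6 = f' := by
    rw [pow_succ, show f' ^ 5 = 1 from hf' ▸ pow_orderOf_eq_one f', one_mul]
  exact_mod_cast (by rw [← pow_mul]; exact e : (f' ^ 2) ^ 3 = f')

/-- An involution centralizes two different subgroups of order five. -/
theorem exists_two_fives (hn : Nat.card G = 175560) {t : G} (ht : orderOf t = 2) :
    ∃ a b : G, orderOf a = 5 ∧ orderOf b = 5 ∧ a * t = t * a ∧ b * t = t * b ∧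
      b ∉ Subgroup.zpowers a := by
  by_contra hcon
  simp only [not_exists, not_and, not_not] at hcon
  have : Fact (Nat.Prime 5) := ⟨by norm_num⟩
  have : Fintype (Sylow 5 G) := Fintype.ofFinite _
  have hP : ∀ P : Sylow 5 G, ∃ x : G, x ∈ P ∧ orderOf x = 5 := fun P => by
    obtain ⟨x, hx⟩ := exists_prime_orderOf_dvd_card' (G := (P : Subgroup G)) 5
      (dvd_of_eq (card_sylow hn (by decide) P).symm)
    exact ⟨x, x.2, by rwa [Subgroup.orderOf_coe]⟩
  choose gen hgm hgo using hP
  let f : (Σ P : Sylow 5 G, {s : G // orderOf s = 2 ∧ s * gen P = gen P * s}) →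
      {s : G // orderOf s = 2} := fun z => ⟨z.2.1, z.2.2.1⟩
  have hf : Function.Injective f := by
    rintro ⟨P, s, hs, hsP⟩ ⟨Q, s', hs', hsQ⟩ h
    obtain rfl : s = s' := congrArg Subtype.val h
    obtain ⟨g, hg⟩ := isConj_iff.1 (invol_conj hn hs ht)
    have hc : ∀ c : G, s * c = c * s → orderOf c = 5 →
        orderOf (g * c * g⁻¹) = 5 ∧ g * c * g⁻¹ * t = t * (g * c * g⁻¹) := fun c hc ho =>
      ⟨(MulEquiv.orderOf_eq (MulAut.conj g) c).trans ho, by
        rw [← hg]
        calc g * c * g⁻¹ * (g * s * g⁻¹) = g * (c * s) * g⁻¹ := by group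
          _ = g * (s * c) * g⁻¹ := by rw [hc]
          _ = g * s * g⁻¹ * (g * c * g⁻¹) := by group⟩
    obtain ⟨o1, c1⟩ := hc _ hsP (hgo P)
    obtain ⟨o2, c2⟩ := hc _ hsQ (hgo Q)
    obtain ⟨i, hi⟩ := hcon _ _ o1 o2 c1 c2
    have hmem : gen Q ∈ Subgroup.zpowers (gen P) := ⟨i, by
      have h : g * gen P ^ i * g⁻¹ = g * gen Q * g⁻¹ := by rw [← hi]; exact (conj_zpow).symm
      exact mul_left_cancel (mul_right_cancel h)⟩
    rw [← sylow_eq_zpowers P (card_sylow hn (by decide) P) (hgm P) (hgo P)] at hmem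
    obtain rfl : P = Q := Sylow.ext ((sylow_eq_zpowers P (card_sylow hn (by decide) P) hmem (hgo Q)).trans
      (sylow_eq_zpowers Q (card_sylow hn (by decide) Q) (hgm Q) (hgo Q)).symm)
    rfl
  have h := Nat.card_le_card_of_injective f hf
  rw [Nat.card_sigma, Finset.sum_congr rfl (fun P _ => card_invol_commute_five hn (hgo P)),
    Finset.sum_const, Finset.card_univ, ← Nat.card_eq_fintype_card, smul_eq_mul, (numbers hn).2.1] at h
  rcases (exists_sel hn).2.2.2.1 with h5 | h5 <;> rw [h5.1] at h <;> norm_num at h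

/-- An involution lies outside the derived subgroup of its centralizer. -/
theorem not_mem_Aof (hn : Nat.card G = 175560) {t : G} (ht : orderOf t = 2) : t ∉ Aof t := by
  have : Fact (Nat.Prime 2) := ⟨Nat.prime_two⟩
  set C := Subgroup.centralizer ({t} : Set G) with hC
  have htC : t ∈ C := Subgroup.mem_centralizer_singleton_iff.2 rfl
  obtain ⟨P, hP⟩ := (IsPGroup.of_card (n := 1) (by rw [Nat.card_zpowers, ht, pow_one]) :
    IsPGroup 2 (Subgroup.zpowers t)).exists_le_sylow
  have htP : t ∈ (P : Subgroup G) := hP (Subgroup.mem_zpowers t)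
  let S : Subgroup C := (P : Subgroup G).subgroupOf C
  have hle : (P : Subgroup G) ≤ C := fun g hg =>
    Subgroup.mem_centralizer_singleton_iff.2 (sylow_comm hn P hg htP)
  have : IsMulCommutative S := ⟨⟨fun a b => Subtype.ext (Subtype.ext
    (sylow_comm hn P (Subgroup.mem_subgroupOf.1 a.2) (Subgroup.mem_subgroupOf.1 b.2)))⟩⟩
  letI : CommGroup S := { (inferInstance : Group S) with mul_comm := fun a b => mul_comm' a b }
  let τ : C →* S := MonoidHom.transfer (MonoidHom.id S)
  have hz : ∀ b : C, Commute b (⟨t, htC⟩ : C) := fun b =>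
    Subtype.ext (Subgroup.mem_centralizer_singleton_iff.1 b.2)
  have hidx : S.index = 15 := by
    have h := S.card_mul_index
    rw [show Nat.card S = 8 from (Nat.card_congr (Subgroup.subgroupOfEquivOfLe hle).toEquiv).trans
      (card_sylow_two hn P), (numbers hn).1 t ht] at h
    omega
  intro hmem
  have hcomm : (⟨t, htC⟩ : C) ∈ commutator C := by
    have h := Subgroup.map_subtype_commutator C
    rw [Aof, ← hC, ← h] at hmem
    obtain ⟨z, hz', hzt⟩ := hmem
    exact (show z = ⟨t, htC⟩ from Subtype.ext hzt) ▸ hz'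
  have h1 : τ ⟨t, htC⟩ = 1 := Abelianization.commutator_subset_ker τ hcomm
  have h2 := MonoidHom.transfer_eq_pow (MonoidHom.id S) (⟨t, htC⟩ : C) fun k g₀ _ => by
    rw [mul_assoc, ← ((hz g₀).pow_right k).eq, inv_mul_cancel_left]
  rw [show MonoidHom.transfer (MonoidHom.id S) = τ from rfl, h1] at h2
  have h3 : t ^ 15 = 1 := by
    have h := congrArg (fun z : S => ((z : C) : G)) h2
    simpa [hidx] using h.symm
  have h4 := orderOf_dvd_of_pow_eq_one h3
  rw [ht] at h4
  norm_num at h4

/-- The centralizer of an involution is the product with a copy of the alternating group. -/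
theorem exists_alt (hn : Nat.card G = 175560) {t : G} (ht : orderOf t = 2) :
    ∃ α : alternatingGroup (Fin 5) →* G, Function.Injective α ∧ α.range = Aof t ∧
      (∀ x : G, x * t = t * x → x ∈ Aof t ∨ t * x ∈ Aof t) := by
  have : Fact (Nat.Prime 5) := ⟨by norm_num⟩
  set C := Subgroup.centralizer ({t} : Set G) with hC
  have htC : t ∈ C := Subgroup.mem_centralizer_singleton_iff.2 rfl
  set Z : Subgroup C := Subgroup.zpowers (⟨t, htC⟩ : C) with hZ
  have hZn : Z.Normal := ⟨fun a ha b => by
    obtain ⟨i, rfl⟩ := ha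
    have hb : Commute b (⟨t, htC⟩ : C) := Subtype.ext (Subgroup.mem_centralizer_singleton_iff.1 b.2)
    rw [(hb.zpow_right i).eq, mul_inv_cancel_right]
    exact Subgroup.zpow_mem _ (Subgroup.mem_zpowers _) i⟩
  have hZc : Nat.card Z = 2 := by rw [hZ, Nat.card_zpowers, Subgroup.orderOf_mk, ht]
  have hQ : Nat.card (C ⧸ Z) = 60 := by
    have h := Z.card_eq_card_quotient_mul_card_subgroup
    rw [hZc, (numbers hn).1 t ht] at h
    omega
  obtain ⟨a, b, ha, hb, hat, hbt, hab⟩ := exists_two_fives hn ht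
  let a' : C := ⟨a, Subgroup.mem_centralizer_singleton_iff.2 hat⟩
  let b' : C := ⟨b, Subgroup.mem_centralizer_singleton_iff.2 hbt⟩
  set π := QuotientGroup.mk' Z
  have hπ : ∀ c : C, orderOf (c : G) = 5 → orderOf (π c) = 5 := by
    intro c hc
    have h1 : orderOf (π c) ∣ 5 := by
      have := orderOf_map_dvd π c
      rwa [← Subgroup.orderOf_coe, hc] at this
    refine ((Nat.dvd_prime (by norm_num)).1 h1).resolve_left fun h => ?_
    have hcZ : c ∈ Z := (QuotientGroup.eq_one_iff c).1 (orderOf_eq_one_iff.1 h)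
    have := Subgroup.orderOf_dvd_natCard _ hcZ
    rw [hZc, ← Subgroup.orderOf_coe, hc] at this
    norm_num at this
  obtain ⟨P⟩ : Nonempty (Sylow 5 (C ⧸ Z)) := inferInstance
  have hsimple : IsSimpleGroup (C ⧸ Z) := by
    refine Cfsg.Agent.S3669.simple_of_sylow_five hQ P fun hN => hab ?_
    have hP5 : Nat.card (P : Subgroup (C ⧸ Z)) = 5 :=
      CfsgLib.Transfer.card_sylow_eq_prime P (hQ.symm ▸ by norm_num) (hQ.symm ▸ by norm_num)
    have hin : ∀ c : C, orderOf (c : G) = 5 → π c ∈ (P : Subgroup (C ⧸ Z)) := by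
      intro c hc
      have : Subsingleton (Sylow 5 (C ⧸ Z)) := by
        have := Sylow.unique_of_normal P hN
        infer_instance
      obtain ⟨Q, hQ'⟩ := (IsPGroup.of_card (n := 1) (by rw [Nat.card_zpowers, hπ c hc, pow_one]) :
        IsPGroup 5 (Subgroup.zpowers (π c))).exists_le_sylow
      rw [Subsingleton.elim P Q]
      exact hQ' (Subgroup.mem_zpowers _)
    have hzp : π b' ∈ Subgroup.zpowers (π a') := by
      rw [← sylow_eq_zpowers P hP5 (hin a' ha) (hπ a' ha)]; exact hin b' hb
    obtain ⟨i, hi⟩ := hzp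
    have h' : π (a' ^ i) = π b' := (map_zpow π a' i).trans hi
    obtain ⟨z, hz, hz'⟩ := (QuotientGroup.mk'_eq_mk' Z).1 h'
    have h2 : z ^ 2 = 1 := by
      have := Subgroup.orderOf_dvd_natCard _ hz
      rw [hZc] at this
      exact orderOf_dvd_iff_pow_eq_one.1 this
    have hzc : Commute (a' ^ i) z := by
      obtain ⟨j, rfl⟩ := hz
      exact ((show Commute a' (⟨t, htC⟩ : C) from Subtype.ext hat).zpow_zpow i j)
    have hsq : b' ^ 2 = (a' ^ i) ^ 2 := by rw [← hz', hzc.mul_pow, h2, mul_one]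
    have hsqG : b ^ 2 = (a ^ i) ^ 2 := by
      have := congrArg (fun z : C => (z : G)) hsq
      simpa using this
    have : b = ((a ^ i) ^ 2) ^ 3 := by
      rw [← hsqG, ← pow_mul, show 2 * 3 = 5 + 1 by norm_num, pow_succ,
        show b ^ 5 = 1 from hb ▸ pow_orderOf_eq_one b, one_mul]
    rw [this]
    exact pow_mem (pow_mem (Subgroup.zpow_mem _ (Subgroup.mem_zpowers a) i) 2) 3
  have hperf : commutator (C ⧸ Z) = ⊤ := by
    refine CfsgLib.Transfer.commutator_eq_top_of_simple fun hcomm => ?_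
    have hprime : (Nat.card (C ⧸ Z)).Prime := by
      letI : CommGroup (C ⧸ Z) :=
        { (inferInstance : Group (C ⧸ Z)) with mul_comm := fun x y => hcomm.is_comm.comm x y }
      exact IsSimpleGroup.prime_card
    rw [hQ] at hprime
    norm_num at hprime
  set D := commutator C with hD
  have hDmap : D.map π = ⊤ := by
    have hs : Function.Surjective π := QuotientGroup.mk'_surjective Z
    rw [hD, commutator_def, Subgroup.map_commutator, Subgroup.map_top_of_surjective _ hs, ← commutator_def]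
    exact hperf
  have hAeq : Aof t = D.map C.subtype := (Subgroup.map_subtype_commutator C).symm
  have htD : (⟨t, htC⟩ : C) ∉ D := fun h => not_mem_Aof hn ht (by rw [hAeq]; exact ⟨_, h, rfl⟩)
  let ψ : D →* (C ⧸ Z) := π.comp D.subtype
  have hψs : Function.Surjective ψ := fun q => by
    obtain ⟨d, hd, rfl⟩ : q ∈ D.map π := hDmap ▸ Subgroup.mem_top q
    exact ⟨⟨d, hd⟩, rfl⟩
  have hψi : Function.Injective ψ := by
    rw [injective_iff_map_eq_one]
    intro d hd
    obtain ⟨i, hi⟩ := (QuotientGroup.eq_one_iff (d : C)).1 hd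
    have h2 : (⟨t, htC⟩ : C) ^ (2 : ℤ) = 1 := by
      rw [zpow_two]; exact Subtype.ext (by
        show t * t = 1
        rw [← pow_two, ← ht]; exact pow_orderOf_eq_one t)
    refine Subtype.ext ?_
    show (d : C) = 1
    rw [← hi]
    show (⟨t, htC⟩ : C) ^ i = 1
    have hi' : (⟨t, htC⟩ : C) ^ i = (d : C) := hi
    rcases Int.even_or_odd' i with ⟨k, rfl | rfl⟩
    · rw [zpow_mul, h2, one_zpow]
    · exfalso
      apply htD
      have e : (⟨t, htC⟩ : C) ^ (2 * k + 1) = ⟨t, htC⟩ := by
        rw [zpow_add, zpow_mul, h2, one_zpow, one_mul, zpow_one]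
      rw [← e, hi']
      exact d.2
  let eD : D ≃* C ⧸ Z := MulEquiv.ofBijective ψ ⟨hψi, hψs⟩
  obtain ⟨e⟩ := CfsgLib.Geom.equiv_altFive_of_simple_sixty hQ
  let α : alternatingGroup (Fin 5) →* G :=
    (C.subtype.comp D.subtype).comp (eD.trans e).symm.toMonoidHom
  refine ⟨α, ?_, ?_, fun x hx => ?_⟩
  · exact (C.subtype_injective.comp D.subtype_injective).comp (eD.trans e).symm.injective
  · rw [hAeq]
    ext y
    constructor
    · rintro ⟨z, rfl⟩; exact ⟨_, ((eD.trans e).symm z).2, rfl⟩
    · rintro ⟨d, hd, rfl⟩; exact ⟨(eD.trans e) ⟨d, hd⟩, by simp [α]⟩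
  · obtain ⟨d, hd⟩ := hψs (π ⟨x, Subgroup.mem_centralizer_singleton_iff.2 hx⟩)
    obtain ⟨z, hz, hz'⟩ := (QuotientGroup.mk'_eq_mk' Z).1 hd
    obtain ⟨i, rfl⟩ := hz
    have hxeq : x = ((d : C) : G) * t ^ i := by
      have := congrArg (fun z : C => (z : G)) hz'
      simpa using this.symm
    have hdA : ((d : C) : G) ∈ Aof t := by rw [hAeq]; exact ⟨_, d.2, rfl⟩
    have hdt : Commute ((d : C) : G) t := Subgroup.mem_centralizer_singleton_iff.1 (d : C).2
    have ht2 : t ^ (2 : ℤ) = 1 := by
      rw [zpow_two, ← pow_two, ← ht]; exact pow_orderOf_eq_one t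
    rcases Int.even_or_odd' i with ⟨k, rfl | rfl⟩
    · rw [zpow_mul, ht2, one_zpow, mul_one] at hxeq
      exact Or.inl (hxeq ▸ hdA)
    · rw [zpow_add, zpow_mul, ht2, one_zpow, one_mul, zpow_one] at hxeq
      refine Or.inr ?_
      rw [hxeq, ← mul_assoc, ← hdt.eq, mul_assoc, ← zpow_two, ht2, mul_one]
      exact hdA

end CfsgLib.KnownA.OneSevenFive
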