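import Cfsg.Agent.Lib.ClassK.RowSieve

/-!
Sylow subgroups and elements of given prime divisor of a simple group of order 175560.
-/

set_option autoImplicit false

namespace CfsgLib.KnownA.OneSevenFive

open Cfsg CfsgLib CfsgLib.ClassK

universe u

/-- The possible Sylow counts, automizer orders and centralizer complements. -/
def opts : ℕ → List (ℕ × ℕ × ℕ)
  | 19 => [(1540, 2, 3), (1540, 6, 1)]
  | 11 => [(1596, 2, 5), (1596, 10, 1)]
  | 7 => [(190, 2, 66), (190, 6, 22), (4180, 2, 3), (4180, 3, 2), (4180, 6, 1)]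
  | 5 => [(66, 2, 266), (231, 2, 76), (231, 4, 38), (266, 4, 33), (1596, 2, 11), (2926, 2, 6),
      (2926, 4, 3), (17556, 2, 1)]
  | 3 => [(28, 2, 1045), (55, 2, 532), (190, 2, 154), (220, 2, 133), (385, 2, 76), (532, 2, 55),
      (1045, 2, 28), (1330, 2, 22), (1540, 2, 19), (2926, 2, 10), (4180, 2, 7), (7315, 2, 4),
      (29260, 2, 1)]
  | _ => []

/-- The primes of the sieve. -/
def primeList : List ℕ := [19, 11, 7, 5, 3]

/-- The excluded selections. -/
def notOpt (p np e : ℕ) : Bool := !((opts p).any fun o => decide (o.1 = np) && decide (o.2.1 = e))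

theorem sieve19 : RowSieve.rowPossible 175560 19 420 (notOpt 19) (fun _ => true) (fun _ => true) = false := by
  decide +kernel
theorem sieve11 : RowSieve.rowPossible 175560 11 420 (notOpt 11) (fun _ => true) (fun _ => true) = false := by
  decide +kernel
theorem sieve7 : RowSieve.rowPossible 175560 7 420 (notOpt 7) (fun _ => true) (fun _ => true) = false := by
  decide +kernel
theorem sieve5 : RowSieve.rowPossible 175560 5 420 (notOpt 5) (fun _ => true) (fun _ => true) = false := by
  decide +kernel
theorem sieve3 : RowSieve.rowPossible 175560 3 420 (notOpt 3) (fun _ => true) (fun _ => true) = false := by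
  decide +kernel

theorem sieve_all {p : ℕ} (hp : p ∈ primeList) :
    p.Prime ∧ p ∣ 175560 ∧ ¬ p ^ 2 ∣ 175560 ∧
      RowSieve.rowPossible 175560 p 420 (notOpt p) (fun _ => true) (fun _ => true) = false := by
  simp only [primeList, List.mem_cons, List.not_mem_nil, or_false] at hp
  rcases hp with rfl | rfl | rfl | rfl | rfl
  · exact ⟨by norm_num, by norm_num, by norm_num, sieve19⟩
  · exact ⟨by norm_num, by norm_num, by norm_num, sieve11⟩
  · exact ⟨by norm_num, by norm_num, by norm_num, sieve7⟩
  · exact ⟨by norm_num, by norm_num, by norm_num, sieve5⟩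
  · exact ⟨by norm_num, by norm_num, by norm_num, sieve3⟩

theorem opts_card {p : ℕ} (hp : p ∈ primeList) :
    ∀ o ∈ opts p, o.1 * (o.2.1 * (p * o.2.2)) = 175560 := by
  simp only [primeList, List.mem_cons, List.not_mem_nil, or_false] at hp
  rcases hp with rfl | rfl | rfl | rfl | rfl <;> decide

variable {G : Type u} [Group G] [Finite G]

/-- Conjugate elements have centralizers of the same order. -/
theorem card_centralizer_conj (g x : G) :
    Nat.card (Subgroup.centralizer ({g * x * g⁻¹} : Set G)) =
      Nat.card (Subgroup.centralizer ({x} : Set G)) := by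
  have h : (Subgroup.centralizer ({x} : Set G)).map (MulAut.conj g).toMonoidHom =
      Subgroup.centralizer ({g * x * g⁻¹} : Set G) := by
    ext y
    simp only [Subgroup.mem_map, MulEquiv.coe_toMonoidHom, MulAut.conj_apply,
      Subgroup.mem_centralizer_singleton_iff]
    constructor
    · rintro ⟨z, hz, rfl⟩
      calc g * z * g⁻¹ * (g * x * g⁻¹) = g * (z * x) * g⁻¹ := by group
        _ = g * (x * z) * g⁻¹ := by rw [hz]
        _ = g * x * g⁻¹ * (g * z * g⁻¹) := by group
    · intro hy
      refine ⟨g⁻¹ * y * g, ?_, by group⟩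
      calc g⁻¹ * y * g * x = g⁻¹ * (y * (g * x * g⁻¹)) * g := by group
        _ = g⁻¹ * ((g * x * g⁻¹) * y) * g := by rw [hy]
        _ = x * (g⁻¹ * y * g) := by group
  rw [← h, ← Nat.card_congr (Subgroup.equivMapOfInjective _ _ (MulAut.conj g).injective).toEquiv]

/-- The centralizer of a subgroup is that of a generator. -/
theorem centralizer_zpowers_eq (x : G) :
    Subgroup.centralizer ((Subgroup.zpowers x : Subgroup G) : Set G) =
      Subgroup.centralizer ({x} : Set G) := by
  refine le_antisymm (Subgroup.centralizer_le ?_) fun y hy => ?_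
  · rw [Set.singleton_subset_iff]; exact Subgroup.mem_zpowers x
  · rw [Subgroup.mem_centralizer_singleton_iff] at hy
    rw [Subgroup.mem_centralizer_iff]
    rintro z ⟨k, rfl⟩
    exact ((show Commute y x from hy).zpow_right k).symm

theorem sylow_eq_zpowers {p : ℕ} [Fact p.Prime] (P : Sylow p G) (hP : Nat.card P = p) {x : G}
    (hx : x ∈ P) (ho : orderOf x = p) : (P : Subgroup G) = Subgroup.zpowers x :=
  (Subgroup.eq_of_le_of_card_ge ((Subgroup.zpowers_le).2 hx) (by rw [Nat.card_zpowers, ho, hP])).symm

/-- All elements of order `p` have centralizers of one order. -/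
theorem card_centralizer_eq_sylow {p : ℕ} [Fact p.Prime] (P : Sylow p G) (hP : Nat.card P = p)
    (x : G) (ho : orderOf x = p) :
    Nat.card (Subgroup.centralizer ({x} : Set G)) =
      Nat.card (Subgroup.centralizer ((P : Subgroup G) : Set G)) := by
  obtain ⟨Q, hQ⟩ := (IsPGroup.of_card (n := 1) (by rw [Nat.card_zpowers, ho, pow_one]) :
    IsPGroup p (Subgroup.zpowers x)).exists_le_sylow
  obtain ⟨g, rfl⟩ := MulAction.exists_smul_eq G Q P
  obtain ⟨y, hy⟩ : ∃ y, y = g * x * g⁻¹ := ⟨_, rfl⟩
  have hyP : y ∈ g • Q := by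
    rw [hy]
    exact ⟨x, hQ (Subgroup.mem_zpowers x), rfl⟩
  have hyo : orderOf y = p := by
    rw [hy, ← ho]
    exact (MulEquiv.orderOf_eq (MulAut.conj g) x)
  rw [sylow_eq_zpowers (g • Q) hP hyP hyo, centralizer_zpowers_eq, hy, card_centralizer_conj]

variable [IsSimpleGroup G]

theorem not_comm (hn : Nat.card G = 175560) : ¬ IsMulCommutative G := by
  intro h
  have : Fact (Nat.Prime 2) := ⟨Nat.prime_two⟩
  obtain ⟨x, hx⟩ := exists_prime_orderOf_dvd_card' (G := G) 2 (by rw [hn]; norm_num)
  have hnorm : (Subgroup.zpowers x).Normal := ⟨fun n hn' g => by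
    rw [show g * n * g⁻¹ = n by rw [h.is_comm.comm g n, mul_inv_cancel_right]]; exact hn'⟩
  rcases hnorm.eq_bot_or_eq_top with hb | ht
  · have := congrArg (fun H : Subgroup G => Nat.card H) hb
    simp [Nat.card_zpowers, hx] at this
  · have := congrArg (fun H : Subgroup G => Nat.card H) ht
    simp [Nat.card_zpowers, hx, hn] at this

/-- The Sylow count and the centralizer order of the elements of order `p`. -/
theorem exists_opt (hn : Nat.card G = 175560) {p : ℕ} (hp : p ∈ primeList) :
    ∃ o ∈ opts p, Nat.card (Sylow p G) = o.1 ∧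
      ∀ x : G, orderOf x = p → Nat.card (Subgroup.centralizer ({x} : Set G)) = p * o.2.2 := by
  obtain ⟨hpp, h1, h2, hs⟩ := sieve_all hp
  have := Fact.mk hpp
  by_contra hcon
  refine RowSieve.false_of_rowPossible' (p := p) (B := 420) (not_comm hn) hn (by norm_num) h1 h2
    (notOpt p) (fun P => ?_) (fun _ => true) (fun _ _ => rfl) hs
  simp only [notOpt, Bool.not_eq_true', List.any_eq_false, Bool.and_eq_true, decide_eq_true_eq]
  rintro o ho ⟨h3, h4⟩
  refine hcon ⟨o, ho, h3.symm, fun x hx => ?_⟩
  have hP : Nat.card P = p :=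
    CfsgLib.Transfer.card_sylow_eq_prime P (hn.symm ▸ h1) (hn.symm ▸ h2)
  have hc := RowSieve.card_config P
  rw [hn, ← h3, ← h4, ← card_centralizer_eq_sylow P hP x hx] at hc
  have hox := opts_card hp o ho
  have hpos : 0 < o.1 ∧ 0 < o.2.1 := by
    constructor <;>
      exact Nat.pos_of_ne_zero fun h0 => by rw [h0] at hox; simp at hox
  rw [← hox] at hc
  exact Nat.eq_of_mul_eq_mul_left hpos.2 (Nat.eq_of_mul_eq_mul_left hpos.1 hc)

end CfsgLib.KnownA.OneSevenFive
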