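import Cfsg.Agent.Lib.KnownA.OneSevenFive.Config
import Mathlib.GroupTheory.SchurZassenhaus

/-!
Elements of order divisible by a prime whose Sylow subgroups have prime order, and the count of the
`2`-elements in a simple group of order 175560.
-/

set_option autoImplicit false

namespace CfsgLib.KnownA.OneSevenFive

open scoped _root_.Classical

universe u

variable {G : Type u} [Group G] [Finite G] {p : ℕ} [hpf : Fact p.Prime]

/-- Number of the elements satisfying `Q` in the `p`-regular part of the centralizer of `x`. -/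
noncomputable def regCount (p : ℕ) (Q : G → Prop) (x : G) : ℕ :=
  Nat.card {g : G // g * x = x * g ∧ ¬ p ∣ orderOf g ∧ Q g}

/-- The complement in the centralizer of an element of prime order. -/
theorem exists_compl {x : G} (hx : orderOf x = p) {c : ℕ}
    (hC : Nat.card (Subgroup.centralizer ({x} : Set G)) = p * c) (hpc : ¬ p ∣ c) :
    ∃ K : Subgroup G, Nat.card K = c ∧ (∀ k ∈ K, k * x = x * k) ∧
      (∀ g : G, g * x = x * g → ∃ i : ℕ, i < p ∧ ∃ k ∈ K, g = x ^ i * k) ∧
      (∀ g : G, g * x = x * g → (g ∈ K ↔ ¬ p ∣ orderOf g)) := by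
  set C := Subgroup.centralizer ({x} : Set G) with hCdef
  have hxC : x ∈ C := Subgroup.mem_centralizer_singleton_iff.2 rfl
  set X : Subgroup C := Subgroup.zpowers (⟨x, hxC⟩ : C) with hX
  have hXc : Nat.card X = p := by rw [hX, Nat.card_zpowers, Subgroup.orderOf_mk, hx]
  have : X.Normal := ⟨fun a ha b => by
    obtain ⟨i, rfl⟩ := ha
    have hb : Commute b (⟨x, hxC⟩ : C) :=
      Subtype.ext (Subgroup.mem_centralizer_singleton_iff.1 b.2)
    rw [(hb.zpow_right i).eq, mul_inv_cancel_right]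
    exact Subgroup.zpow_mem _ (Subgroup.mem_zpowers _) i⟩
  have hidx : X.index = c := by
    have h := X.card_mul_index
    rw [hXc, hC] at h
    exact Nat.eq_of_mul_eq_mul_left hpf.out.pos h
  have hcop : (Nat.card X).Coprime X.index := by
    rw [hXc, hidx]; exact hpf.out.coprime_iff_not_dvd.2 hpc
  obtain ⟨K₀, hK₀⟩ := Subgroup.exists_right_complement'_of_coprime hcop
  have hKc : Nat.card K₀ = c := hK₀.symm.index_eq_card.symm.trans hidx
  refine ⟨K₀.map C.subtype, ?_, ?_, ?_, ?_⟩
  · rw [← hKc]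
    exact (Nat.card_congr (Subgroup.equivMapOfInjective _ _ C.subtype_injective).toEquiv).symm
  · rintro k ⟨k', -, rfl⟩
    exact Subgroup.mem_centralizer_singleton_iff.1 k'.2
  all_goals intro g hg
  · obtain ⟨⟨a, k⟩, hak⟩ := hK₀.2 (⟨g, Subgroup.mem_centralizer_singleton_iff.2 hg⟩ : C)
    obtain ⟨i, hi, hia⟩ := Finset.mem_image.1
      ((isOfFinOrder_of_finite (⟨x, hxC⟩ : C)).mem_zpowers_iff_mem_range_orderOf.1 a.2)
    rw [Subgroup.orderOf_mk, hx] at hi
    refine ⟨i, Finset.mem_range.1 hi, (k : C), ⟨k, k.2, rfl⟩, ?_⟩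
    have h := congrArg (fun z : C => (z : G)) hak
    simp only [Subgroup.coe_mul, ← hia] at h
    rw [← h]
    simp
  · constructor
    · rintro ⟨k, hk, rfl⟩ hd
      refine hpc (hd.trans ?_)
      rw [Subgroup.coe_subtype, Subgroup.orderOf_coe, ← hKc]
      exact Subgroup.orderOf_dvd_natCard _ hk
    · intro hd
      obtain ⟨⟨a, k⟩, hak⟩ := hK₀.2 (⟨g, Subgroup.mem_centralizer_singleton_iff.2 hg⟩ : C)
      obtain ⟨i, hia⟩ := a.2
      refine ⟨k, k.2, ?_⟩
      simp only [← hia] at hak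
      have hcm : Commute ((⟨x, hxC⟩ : C) ^ i) (k : C) :=
        (show Commute (⟨x, hxC⟩ : C) (k : C) from Subtype.ext
          (Subgroup.mem_centralizer_singleton_iff.1 (k : C).2).symm).zpow_left i
      have hkc : (k : C) ^ c = 1 := by
        rw [← hKc]
        exact orderOf_dvd_iff_pow_eq_one.1 (Subgroup.orderOf_dvd_natCard _ k.2)
      have hg' : (⟨g, Subgroup.mem_centralizer_singleton_iff.2 hg⟩ : C) ^ c =
          ((⟨x, hxC⟩ : C) ^ i) ^ c := by rw [← hak, hcm.mul_pow, hkc, mul_one]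
      have h1 : orderOf (((⟨x, hxC⟩ : C) ^ i) ^ c) ∣ p := by
        refine (orderOf_pow_dvd c).trans ?_
        rw [← hXc]
        exact Subgroup.orderOf_dvd_natCard X (Subgroup.zpow_mem _ (Subgroup.mem_zpowers _) i)
      have h2 : orderOf (((⟨x, hxC⟩ : C) ^ i) ^ c) ∣ orderOf g := by
        rw [← hg']
        exact (orderOf_pow_dvd c).trans (dvd_of_eq (Subgroup.orderOf_mk _ _))
      have h3 : ((⟨x, hxC⟩ : C) ^ i) ^ c = 1 := by
        rw [← orderOf_eq_one_iff]
        exact ((Nat.dvd_prime hpf.out).1 h1).resolve_right fun h => hd (h ▸ h2)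
      have h4 : orderOf ((⟨x, hxC⟩ : C) ^ i) ∣ Nat.gcd p c := Nat.dvd_gcd (by
        rw [← hXc]
        exact Subgroup.orderOf_dvd_natCard X (Subgroup.zpow_mem _ (Subgroup.mem_zpowers _) i))
        (orderOf_dvd_of_pow_eq_one h3)
      rw [(hpf.out.coprime_iff_not_dvd.2 hpc).gcd_eq_one, Nat.dvd_one, orderOf_eq_one_iff] at h4
      rw [h4, one_mul] at hak
      rw [hak]
      rfl

theorem regCount_conj {Q : G → Prop} (hQ : ∀ g h, Q g → Q (h * g * h⁻¹)) (x h : G) :
    regCount p Q (h * x * h⁻¹) = regCount p Q x := by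
  have key : ∀ y h g : G, g * y = y * g ∧ ¬ p ∣ orderOf g ∧ Q g →
      (h * g * h⁻¹) * (h * y * h⁻¹) = (h * y * h⁻¹) * (h * g * h⁻¹) ∧
        ¬ p ∣ orderOf (h * g * h⁻¹) ∧ Q (h * g * h⁻¹) := by
    rintro y h g ⟨h1, h2, h3⟩
    refine ⟨?_, ?_, hQ g h h3⟩
    · have := congrArg (fun z => h * z * h⁻¹) h1
      simpa [mul_assoc] using this
    · rwa [show orderOf (h * g * h⁻¹) = orderOf g from MulEquiv.orderOf_eq (MulAut.conj h) g]
  refine Nat.card_congr ⟨fun g => ⟨h⁻¹ * g.1 * h⁻¹⁻¹, ?_⟩, fun g => ⟨h * g.1 * h⁻¹, key x h g g.2⟩,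
    fun g => Subtype.ext (by simp [mul_assoc]), fun g => Subtype.ext (by simp [mul_assoc])⟩
  have := key _ h⁻¹ g.1 g.2
  rwa [show h⁻¹ * (h * x * h⁻¹) * h⁻¹⁻¹ = x by group] at this

/-- Elements of order divisible by `p` with a property stable under removing the `p`-part. -/
theorem card_dvd_orderOf {c : ℕ}
    (hS : ∀ P : Sylow p G, Nat.card P = p)
    (hC : ∀ x : G, orderOf x = p → Nat.card (Subgroup.centralizer ({x} : Set G)) = p * c)
    (hpc : ¬ p ∣ c) {Q : G → Prop} (hQ : ∀ g h, Q g → Q (h * g * h⁻¹))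
    (hQx : ∀ a k : G, orderOf a = p → a * k = k * a → ¬ p ∣ orderOf k → (Q (a * k) ↔ Q k))
    {x₀ : G} (hx₀ : orderOf x₀ = p) :
    Nat.card {g : G // p ∣ orderOf g ∧ Q g} =
      Nat.card (Sylow p G) * ((p - 1) * regCount p Q x₀) := by
  have : Fintype (Sylow p G) := Fintype.ofFinite _
  have hp := hpf.out
  have hgen : ∀ P : Sylow p G, ∃ x : G, x ∈ P ∧ orderOf x = p := fun P => by
    obtain ⟨x, hx⟩ := exists_prime_orderOf_dvd_card' (G := (P : Subgroup G)) p (dvd_of_eq (hS P).symm)
    exact ⟨x, x.2, by rwa [Subgroup.orderOf_coe]⟩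
  choose gen hgenP hgeno using hgen
  have hprt : ∀ g : G, p ∣ orderOf g → orderOf (g ^ (orderOf g / p)) = p := fun g hg => by
    obtain ⟨m, hm⟩ := hg
    have hm0 : m ≠ 0 := fun h => (orderOf_pos g).ne' (by rw [hm, h, mul_zero])
    rw [hm, Nat.mul_div_cancel_left _ hp.pos,
      orderOf_pow_of_dvd hm0 (hm ▸ dvd_mul_left m p), hm, Nat.mul_div_cancel _ (Nat.pos_of_ne_zero hm0)]
  have hsyl : ∀ g : G, p ∣ orderOf g → ∃ P : Sylow p G, g ^ (orderOf g / p) ∈ P := fun g hg => by
    obtain ⟨P, hP⟩ := (IsPGroup.of_card (n := 1) (by rw [Nat.card_zpowers, hprt g hg, pow_one]) :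
      IsPGroup p (Subgroup.zpowers (g ^ (orderOf g / p)))).exists_le_sylow
    exact ⟨P, hP (Subgroup.mem_zpowers _)⟩
  choose syl hsylm using hsyl
  let π : {g : G // p ∣ orderOf g ∧ Q g} → Sylow p G := fun g => syl g.1 g.2.1
  have hfib : ∀ P : Sylow p G, Nat.card {g // π g = P} = (p - 1) * regCount p Q x₀ := by
    intro P
    set x := gen P
    have hx := hgeno P
    have hPx := sylow_eq_zpowers P (hS P) (hgenP P) hx
    obtain ⟨K, -, hKx, hKdec, hKreg⟩ := exists_compl hx (hC x hx) hpc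
    have hiff : ∀ g : {g : G // p ∣ orderOf g ∧ Q g}, π g = P ↔ g.1 * x = x * g.1 := by
      rintro ⟨g, hg, hgQ⟩
      constructor
      · intro h
        have hmem : g ^ (orderOf g / p) ∈ (P : Subgroup G) := h ▸ hsylm g hg
        have hxmem : x ∈ Subgroup.zpowers (g ^ (orderOf g / p)) := by
          rw [← sylow_eq_zpowers P (hS P) hmem (hprt g hg)]; exact hgenP P
        obtain ⟨i, hi⟩ := hxmem
        show g * x = x * g
        rw [← hi]
        exact (((Commute.refl g).pow_right _).zpow_right i).eq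
      · intro hgx
        have hy := hsylm g hg
        set y := g ^ (orderOf g / p) with hydef
        have hyx : Commute y x := (show Commute g x from hgx).pow_left _
        have hyN : Subgroup.zpowers y ≤ Subgroup.normalizer ((P : Subgroup G) : Set G) := by
          refine le_trans ?_ (Subgroup.centralizer_le_normalizer _)
          rw [Subgroup.zpowers_le, hPx, centralizer_zpowers_eq, Subgroup.mem_centralizer_singleton_iff]
          exact hyx.eq
        have hpg : IsPGroup p (Subgroup.zpowers y) :=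
          IsPGroup.of_card (n := 1) (by rw [Nat.card_zpowers, hprt g hg, pow_one])
        have hyP : y ∈ (P : Subgroup G) := by
          have h := hpg.inf_normalizer_sylow P
          have hle : Subgroup.zpowers y ≤ (P : Subgroup G) := by
            intro z hz
            exact (h.le ⟨hz, hyN hz⟩).2
          exact hle (Subgroup.mem_zpowers y)
        exact Sylow.ext ((sylow_eq_zpowers _ (hS _) hy (hprt g hg)).trans
          (sylow_eq_zpowers P (hS P) hyP (hprt g hg)).symm)
    have hxa : ∀ i : ℕ, 1 ≤ i → i < p → orderOf (x ^ i) = p := fun i h1 h2 => by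
      rw [Nat.Coprime.orderOf_pow (by
        rw [hx]; exact hp.coprime_iff_not_dvd.2 fun h => absurd (Nat.le_of_dvd h1 h) (by omega)), hx]
    let R := {k : G // k * x = x * k ∧ ¬ p ∣ orderOf k ∧ Q k}
    let f : Fin (p - 1) × R → {g // π g = P} := fun ik => ⟨⟨x ^ (ik.1.1 + 1) * ik.2.1, by
        have hcm : Commute (x ^ (ik.1.1 + 1)) ik.2.1 :=
          (show Commute x ik.2.1 from ik.2.2.1.symm).pow_left _
        have hoa := hxa (ik.1.1 + 1) (by omega) (by have := ik.1.2; omega)
        refine ⟨?_, (hQx _ _ hoa hcm.eq ik.2.2.2.1).2 ik.2.2.2.2⟩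
        rw [hcm.orderOf_mul_eq_mul_orderOf_of_coprime (by
          rw [hoa]; exact hp.coprime_iff_not_dvd.2 ik.2.2.2.1), hoa]
        exact dvd_mul_right _ _⟩, (hiff _).2 (by
        have hxk : Commute ik.2.1 x := ik.2.2.1
        exact (((Commute.refl x).pow_left _).mul_left hxk).eq)⟩
    have hf : Function.Bijective f := by
      constructor
      · rintro ⟨⟨i, hi⟩, ⟨k, hk1, hk2, hk3⟩⟩ ⟨⟨j, hj⟩, ⟨l, hl1, hl2, hl3⟩⟩ h
        have h' : x ^ (i + 1) * k = x ^ (j + 1) * l := congrArg (fun z => z.1.1) h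
        have hkl : k * l⁻¹ ∈ K := K.mul_mem ((hKreg k hk1).2 hk2) (K.inv_mem ((hKreg l hl1).2 hl2))
        have e : k * l⁻¹ = (x ^ (i + 1))⁻¹ * x ^ (j + 1) := by
          rw [eq_inv_mul_iff_mul_eq, ← mul_assoc, h', mul_inv_cancel_right]
        have hone : k * l⁻¹ = 1 := by
          have hd : orderOf (k * l⁻¹) ∣ p := by
            rw [e]
            refine dvd_trans ?_ (dvd_of_eq ((Nat.card_zpowers x).trans hx))
            exact Subgroup.orderOf_dvd_natCard _ (Subgroup.mul_mem _ (Subgroup.inv_mem _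
              (Subgroup.pow_mem _ (Subgroup.mem_zpowers x) _))
              (Subgroup.pow_mem _ (Subgroup.mem_zpowers x) _))
          rw [← orderOf_eq_one_iff]
          refine ((Nat.dvd_prime hp).1 hd).resolve_right fun h0 => ?_
          exact (hKreg _ (hKx _ hkl)).1 hkl (dvd_of_eq h0.symm)
        have hkl' : k = l := mul_inv_eq_one.1 hone
        subst hkl'
        have hpow := mul_right_cancel h'
        have := pow_injOn_Iio_orderOf (x := x) (by rw [Set.mem_Iio, hx]; omega)
          (by rw [Set.mem_Iio, hx]; omega) hpow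
        have hij : i = j := by omega
        subst hij; rfl
      · rintro ⟨⟨g, hg, hgQ⟩, hgP⟩
        have hgx := (hiff _).1 hgP
        obtain ⟨i, hi, k, hk, hgk⟩ := hKdec g hgx
        have hreg := (hKreg k (hKx k hk)).1 hk
        have hi1 : 1 ≤ i := Nat.pos_of_ne_zero fun h0 => hreg (by
          rwa [hgk, h0, pow_zero, one_mul] at hg)
        have hkQ : Q k := by
          rw [hgk] at hgQ
          exact (hQx _ _ (hxa i hi1 hi) ((show Commute x k from (hKx k hk).symm).pow_left i).eq hreg).1 hgQ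
        refine ⟨(⟨i - 1, by omega⟩, ⟨k, hKx k hk, hreg, hkQ⟩), Subtype.ext (Subtype.ext ?_)⟩
        show x ^ (i - 1 + 1) * k = g
        rw [Nat.sub_add_cancel hi1, hgk]
    rw [← Nat.card_congr (Equiv.ofBijective f hf), Nat.card_prod, Nat.card_fin]
    congr 1
    obtain ⟨h, rfl⟩ := MulAction.exists_smul_eq G (syl x₀ (by rw [hx₀])) P
    have hy : h * x₀ * h⁻¹ ∈ h • syl x₀ (by rw [hx₀]) := by
      refine ⟨x₀, ?_, rfl⟩
      have := hsylm x₀ (dvd_of_eq hx₀.symm)
      have he : x₀ ^ (orderOf x₀ / p) = x₀ := by rw [hx₀, Nat.div_self hp.pos, pow_one]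
      exact Eq.mp (congrArg (fun z => z ∈ ((syl x₀ (dvd_of_eq hx₀.symm) : Sylow p G) : Subgroup G)) he) this
    have hyo : orderOf (h * x₀ * h⁻¹) = p := (MulEquiv.orderOf_eq (MulAut.conj h) x₀).trans hx₀
    have e := sylow_eq_zpowers _ (hS _) hy hyo
    rw [hPx] at e
    rw [← regCount_conj hQ x₀ h]
    refine Nat.card_congr (Equiv.subtypeEquivRight fun g => and_congr_left fun _ => ?_)
    rw [← Subgroup.mem_centralizer_singleton_iff, ← centralizer_zpowers_eq, e, centralizer_zpowers_eq,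
      Subgroup.mem_centralizer_singleton_iff]
  rw [Nat.card_congr (Equiv.sigmaFiberEquiv π).symm, Nat.card_sigma, Finset.sum_congr rfl fun P _ =>
    hfib P, Finset.sum_const, Finset.card_univ, ← Nat.card_eq_fintype_card, smul_eq_mul]

end CfsgLib.KnownA.OneSevenFive
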