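import Cfsg.Agent.Lib.KnownA.OneSevenFive.Orient
import Cfsg.Agent.Lib.InvChar.CosetCert
import Cfsg.Agent.Lib.KnownA.OneSevenFiveData.II0.Main
import Cfsg.Agent.Lib.KnownA.OneSevenFiveData.II1.Main
import Cfsg.Agent.Lib.KnownA.OneSevenFiveData.II2.Main
import Cfsg.Agent.Lib.KnownA.OneSevenFiveData.II3.Main
import Cfsg.Agent.Lib.KnownA.OneSevenFiveData.I.Main

/-!
Generators and relations for a simple group of order 175560.
-/

set_option autoImplicit false
set_option maxRecDepth 100000

namespace CfsgLib.KnownA.OneSevenFive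

open CfsgLib.InvChar.Coset
open scoped _root_.Classical

attribute [local irreducible] pU pV pW

universe u

/-- The generators: `t`, the images of the three letters, and `y`. -/
def sOf {G : Type u} [Group G] (α : A5 →* G) (t y : G) (x : ℕ) : G :=
  if x = 0 then t else if x = 4 then y else α (pLetters x)

/-- The relators common to both cases. -/
def relsBase : List (List ℕ) :=
  [[], [0, 0], [1, 1], [2, 2], [3, 3], [4, 4], [0, 1, 0, 1], [0, 2, 0, 2], [0, 3, 0, 3],
   [1, 2, 1, 2], [1, 3, 1, 3, 1, 3], [2, 3, 2, 3, 2, 3, 2, 3, 2, 3],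
   [1, 2, 3, 1, 2, 3, 1, 2, 3, 1, 2, 3, 1, 2, 3], [0, 4, 0, 4, 0, 4, 0, 4, 0, 4],
   [4, 1, 3, 4, 3, 1], [0, 2, 4, 0, 2, 4, 0, 2, 4, 0, 2, 4, 0, 2, 4]]

/-- The relators of the first case. -/
def relsI : List (List ℕ) := relsBase ++ [[1, 4, 1, 4], [2, 1, 4, 2, 1, 4, 2, 1, 4]]

/-- The word of order three in the second case. -/
def eWord : List ℕ :=
  [3, 2, 1, 3, 2, 3, 4, 3, 2, 3, 1, 2, 3, 0, 3, 2, 1, 3, 2, 3, 4, 3, 2, 3, 1, 2, 3, 0, 1,
   3, 2, 1, 3, 2, 3, 4, 3, 2, 3, 1, 2, 3]

/-- The relators of the second case. -/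
def relsII (l : List ℕ) : List (List ℕ) :=
  relsBase ++ [[0, 1, 4, 0, 1, 4], [2, 4, 2, 4, 2, 4], eWord.reverse ++ [4] ++ eWord ++ l.reverse]

/-- Each word of `L` is a rotation of a word of `W`, possibly read backwards. -/
def rotOK (W L : List (List ℕ)) : Bool :=
  L.all fun r => W.any fun b => (List.range (b.length + 1)).any fun k =>
    r == b.drop k ++ b.take k || r == (b.drop k ++ b.take k).reverse

theorem rels_of_rot {G : Type u} [Group G] {s : ℕ → G} (hs : ∀ x, s x * s x = 1)
    {W L : List (List ℕ)} (h : rotOK W L = true) (hW : ∀ b ∈ W, wprod s b = 1) :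
    ∀ r ∈ L, wprod s r = 1 := by
  intro r hr
  simp only [rotOK, List.all_eq_true, List.any_eq_true, Bool.or_eq_true, beq_iff_eq] at h
  obtain ⟨b, hb, k, -, hk | hk⟩ := h r hr
  · rw [hk]; exact wprod_rotate s b k (hW b hb)
  · rw [hk, wprod_reverse s hs, wprod_rotate s b k (hW b hb), inv_one]

theorem rot_I : rotOK relsI OneSevenFive.I.cert.rels = true := by decide +kernel
theorem rot_II0 : rotOK (relsII [2, 3, 2, 3, 2]) OneSevenFive.II0.cert.rels = true := by decide +kernel
theorem rot_II1 : rotOK (relsII [1, 2, 3, 2, 3, 1, 2]) OneSevenFive.II1.cert.rels = true := by decide +kernel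
theorem rot_II2 : rotOK (relsII [3, 2, 3]) OneSevenFive.II2.cert.rels = true := by decide +kernel
theorem rot_II3 : rotOK (relsII [1, 3, 2, 3, 1]) OneSevenFive.II3.cert.rels = true := by decide +kernel

/-- A table with one point shows that the last letter lies in the subgroup. -/
theorem mem_of_one_point {D : Cert} {T : Table} {live fin : Tr} (hC : Covered D T live fin)
    (hn1 : T.n = 1) (hg : 4 < T.g) {G : Type u} [Group G] (s : ℕ → G) (H : Subgroup G)
    (hs : ∀ x, s x * s x = 1) (hR : ∀ r ∈ D.rels, wprod s r = 1)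
    (hS : ∀ r ∈ D.subs, wprod s r ∈ H) : s 4 ∈ H := by
  have hi : 0 < T.n := by omega
  have h := hC.smul_coset s H hs hR hS hg hi
  have h0 : T.app 0 4 = 0 := by have := (hC.rows 0 hi 4 hg).1; omega
  rw [h0, hC.coset_zero s H] at h
  have h' : ((s 4 * 1 : G) : G ⧸ H) = ((1 : G) : G ⧸ H) := h
  rw [mul_one, QuotientGroup.eq, mul_one] at h'
  exact inv_mem_iff.1 h'

/-- An involution inverts or centralizes a normalised element of order five. -/
theorem fix_or_invert {G : Type u} [Group G] {g f : G} (hg : g * g = 1) (hf : orderOf f = 5)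
    (h : g * f * g ∈ Subgroup.zpowers f) : g * f * g = f ∨ g * f * g = f⁻¹ := by
  obtain ⟨i, hi⟩ := h
  have hi' : f ^ i = g * f * g := hi
  have hgi : g⁻¹ = g := inv_eq_of_mul_eq_one_right hg
  have h2 : f ^ (i * i) = f := by
    calc f ^ (i * i) = (g * f * g⁻¹) ^ i := by rw [zpow_mul, hi', hgi]
      _ = g * f ^ i * g⁻¹ := conj_zpow
      _ = g * g * f * (g * g) := by rw [hi', hgi]; group
      _ = f := by rw [hg, one_mul, mul_one]
  have hd : (5 : ℤ) ∣ (i - 1) * (i + 1) := by
    have h := orderOf_dvd_iff_zpow_eq_one.2 (show f ^ (i * i - 1) = 1 by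
      rw [zpow_sub, h2, zpow_one, mul_inv_cancel])
    rw [hf] at h
    rw [show (i - 1) * (i + 1) = i * i - 1 by ring]
    exact_mod_cast h
  rcases (Int.prime_iff_natAbs_prime.2 (by norm_num : (5 : ℤ).natAbs.Prime)).dvd_or_dvd hd with h | h
  · refine Or.inl (hi'.symm.trans ?_)
    rw [← mul_inv_eq_one, ← zpow_sub_one, ← orderOf_dvd_iff_zpow_eq_one, hf]
    exact_mod_cast h
  · refine Or.inr (hi'.symm.trans ?_)
    rw [← mul_eq_one_iff_eq_inv, ← zpow_add_one, ← orderOf_dvd_iff_zpow_eq_one, hf]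
    exact_mod_cast h

theorem conj_eq {G : Type u} [Group G] {a b e : G} (h : a * e = e * b) : e⁻¹ * a * e = b := by
  rw [mul_assoc, h, inv_mul_cancel_left]

theorem comm_of_mul_self {G : Type u} [Group G] {a b : G} (ha : a * a = 1) (hb : b * b = 1)
    (hab : a * b * (a * b) = 1) : a * b = b * a := by
  have h := inv_eq_of_mul_eq_one_right hab
  rw [mul_inv_rev, inv_eq_of_mul_eq_one_right ha, inv_eq_of_mul_eq_one_right hb] at h
  exact h.symm

/-- The automorphism exchanging the two choices of the second letter. -/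
def tau : A5 →* A5 := (MulAut.conjNormal (Equiv.swap (0 : Fin 5) 1)).toMonoidHom

theorem tau_val : tau pU = pU ∧ tau pV = pU * pV ∧ tau pW = pW := by decide +kernel

variable {G : Type u} [Group G] [Finite G] [IsSimpleGroup G]

/-- An element with a product of order five with a member of the derived centralizer is a member. -/
theorem mem_Aof_of_pow_five (hn : Nat.card G = 175560) {i T Z : G} (hi : orderOf i = 2)
    (hT : T ∈ Aof i) (hc : Z * i = i * Z) (h5 : (T * Z) ^ 5 = 1) : Z ∈ Aof i := by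
  obtain ⟨α, -, -, hdec⟩ := exists_alt hn hi
  refine (hdec Z hc).resolve_right fun h => not_mem_Aof hn hi ?_
  have ii := invol_mul_self hi
  have hTi : Commute T i := Aof_commute hT
  have hm : T * (i * Z) ∈ Aof i := mul_mem hT h
  have e : T * Z = i * (T * (i * Z)) := by
    rw [← mul_assoc i T, ← hTi.eq, mul_assoc, ← mul_assoc i i, ii, one_mul]
  rw [e, (show Commute i (T * (i * Z)) from (Aof_commute hm).symm).mul_pow] at h5
  have e5 : i ^ 5 = i := by rw [pow_succ, show i ^ 4 = (i * i) * (i * i) by simp [pow_succ, mul_assoc], ii, one_mul, one_mul]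
  rw [e5] at h5
  have hinv : ((T * (i * Z)) ^ 5)⁻¹ ∈ Aof i := inv_mem (pow_mem hm 5)
  rwa [← eq_inv_of_mul_eq_one_left h5] at hinv

/-- The facts about three involutions of one derived centralizer needed for the pattern. -/
theorem pattern (hn : Nat.card G = 175560) {i T B Z : G} (hi : orderOf i = 2)
    (hT : T ∈ Aof i) (hB : B ∈ Aof i) (hZ : Z ∈ Aof i) (T2 : T * T = 1) (T1 : T ≠ 1)
    (B2 : B * B = 1) (B1 : B ≠ 1) (Z2 : Z * Z = 1) (Z1 : Z ≠ 1) (hTB : T * B = B * T)
    (hne : T ≠ B) (h5 : (T * Z) ^ 5 = 1) (hTZ : T ≠ Z) :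
    ((B * Z) ^ 3 = 1 ∧ (T * B * Z) ^ 5 = 1) ∨
      ((B * (Z * T * Z)) ^ 3 = 1 ∧ (T * B * (Z * T * Z)) ^ 5 = 1) := by
  obtain ⟨α, hα, hr, -⟩ := exists_alt hn hi
  obtain ⟨p, hp, rfl⟩ := exists_listed hα hr hT T2 T1
  obtain ⟨q, hq, rfl⟩ := exists_listed hα hr hB B2 B1
  obtain ⟨r, hr', rfl⟩ := exists_listed hα hr hZ Z2 Z1
  simp only [← map_mul, ← map_pow, ← map_one α, hα.eq_iff] at *
  exact pattern_table p hp q hq r hr' hTB (fun h => hne (by rw [h])) h5 (fun h => hTZ (by rw [h]))

/-- The facts about three involutions of one derived centralizer needed for the three-cycle. -/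
theorem cycle (hn : Nat.card G = 175560) {i T B Z : G} (hi : orderOf i = 2)
    (hT : T ∈ Aof i) (hB : B ∈ Aof i) (hZ : Z ∈ Aof i) (T2 : T * T = 1) (T1 : T ≠ 1)
    (B2 : B * B = 1) (B1 : B ≠ 1) (Z2 : Z * Z = 1) (Z1 : Z ≠ 1) (hTB : T * B = B * T)
    (hne : T ≠ B) (h5 : (T * Z) ^ 5 = 1) (h3 : (B * Z) ^ 3 = 1) (h5' : (T * B * Z) ^ 5 = 1) :
    T * (Z * T * Z * T * B * Z) = (Z * T * Z * T * B * Z) * B ∧
      B * (Z * T * Z * T * B * Z) = (Z * T * Z * T * B * Z) * (T * B) := by
  obtain ⟨α, hα, hr, -⟩ := exists_alt hn hi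
  obtain ⟨p, hp, rfl⟩ := exists_listed hα hr hT T2 T1
  obtain ⟨q, hq, rfl⟩ := exists_listed hα hr hB B2 B1
  obtain ⟨r, hr', rfl⟩ := exists_listed hα hr hZ Z2 Z1
  simp only [← map_mul, ← map_pow, ← map_one α, hα.eq_iff] at *
  exact cycle_table p hp q hq r hr' hTB (fun h => hne (by rw [h])) h5 h3 h5'

/-- The standard data: an involution, its derived centralizer and a further involution. -/
structure Std (α : A5 →* G) (t y : G) : Prop where
  inj : Function.Injective α
  range : α.range = Aof t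
  ord : orderOf t = 2
  y2 : y * y = 1
  ty5 : (t * y) ^ 5 = 1
  ty1 : t * y ≠ 1
  yc : y * α (pU * pW) = α (pU * pW) * y

namespace Std

variable {α : A5 →* G} {t y : G} (h : Std α t y)
include h

theorem tt : t * t = 1 := invol_mul_self h.ord

theorem mem (a : A5) : α a ∈ Aof t := h.range ▸ ⟨a, rfl⟩

theorem tcomm (a : A5) : Commute (α a) t := Aof_commute (h.mem a)

theorem y_ne_one : y ≠ 1 := fun e => by
  have h5 := h.ty5
  rw [e, mul_one, pow_succ, show t ^ 4 = (t * t) * (t * t) by simp [pow_succ, mul_assoc], h.tt, one_mul, one_mul] at h5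
  exact invol_ne_one h.ord h5

/-- Replacing `y` by the next involution of its dihedral group. -/
theorem next : Std α t (y * t * y) := by
  have e : t * (y * t * y) = (t * y) ^ 2 := by rw [pow_two]; group
  refine ⟨h.inj, h.range, h.ord, ?_, ?_, ?_, ?_⟩
  · calc y * t * y * (y * t * y) = y * t * (y * y) * t * y := by group
      _ = y * (t * t) * y := by rw [h.y2, mul_one]; group
      _ = 1 := by rw [h.tt, mul_one, h.y2]
  · rw [e, ← pow_mul, mul_comm, pow_mul, h.ty5, one_pow]
  · rw [e]
    intro e2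
    refine h.ty1 ?_
    calc t * y = (t * y) ^ 5 * (((t * y) ^ 2) ^ 2)⁻¹ := by
          rw [← pow_mul, show 5 = 1 + 2 * 2 by norm_num, pow_add, pow_one, mul_inv_cancel_right]
      _ = 1 := by rw [h.ty5, e2, one_pow, inv_one, one_mul]
  · have hy : Commute y (α (pU * pW)) := h.yc
    exact ((hy.mul_left (h.tcomm _).symm).mul_left hy).eq

/-- The relators common to both cases hold. -/
theorem base_rels {b : G} (hb : (t * α pV * y) ^ 5 = b) (hb1 : b = 1) :
    ∀ r ∈ relsBase, wprod (sOf α t y) r = 1 := by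
  subst hb1
  obtain ⟨r1, -, r2, -, r3, r4, -, r5, -, r6, r7⟩ := relations pV (by simp)
  have hW : α pW * α pU = (α (pU * pW))⁻¹ := by
    refine eq_inv_of_mul_eq_one_left ?_
    rw [← map_mul, ← map_mul, mul_assoc, ← mul_assoc pU, r1, one_mul, r3, map_one]
  have inv2 : ∀ a : A5, a * a = 1 → t * α a * (t * α a) = 1 := fun a ha => by
    rw [← mul_assoc, mul_assoc t (α a) t, (h.tcomm a).eq, ← mul_assoc, h.tt, one_mul, ← map_mul, ha,
      map_one]
  intro r hr
  simp only [relsBase, List.mem_cons, List.not_mem_nil, or_false] at hr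
  rcases hr with rfl | rfl | rfl | rfl | rfl | rfl | rfl | rfl | rfl | rfl | rfl | rfl | rfl | rfl | rfl | rfl <;>
    simp only [wprod, List.map_cons, List.map_nil, List.prod_cons, List.prod_nil, mul_one, sOf,
      pLetters, OfNat.ofNat_ne_zero, OfNat.zero_ne_ofNat, OfNat.ofNat_eq_ofNat, Nat.reduceEqDiff,
      if_true, if_false]
  · exact h.tt
  · rw [← map_mul, r1, map_one]
  · rw [← map_mul, r2, map_one]
  · rw [← map_mul, r3, map_one]
  · exact h.y2
  · rw [← mul_assoc]; exact inv2 pU r1
  · rw [← mul_assoc]; exact inv2 pV r2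
  · rw [← mul_assoc]; exact inv2 pW r3
  · rw [← map_mul, ← map_mul, ← map_mul, ← map_one α, ← mul_assoc pV pU, ← r4, mul_assoc, r2, mul_one, r1]
  · simp only [← map_mul, ← map_one α]
    rw [← r5]; congr 1
  · simp only [← map_mul, ← map_one α]
    rw [← r6]; congr 1
  · simp only [← map_mul, ← map_one α]
    rw [← r7]; congr 1
  · rw [← h.ty5]; simp only [pow_succ, pow_zero, one_mul, mul_assoc]
  · calc y * (α pU * (α pW * (y * (α pW * α pU))))
        = y * α (pU * pW) * y * (α (pU * pW))⁻¹ := by rw [hW, map_mul]; group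
      _ = 1 := by rw [h.yc, mul_assoc (α (pU * pW)), h.y2, mul_one, mul_inv_cancel]
  · rw [← hb]; simp only [pow_succ, pow_zero, one_mul, mul_assoc]

theorem sOf_sq (x : ℕ) : sOf α t y x * sOf α t y x = 1 := by
  obtain ⟨r1, -, r2, -, r3, -⟩ := relations pV (by simp)
  unfold sOf pLetters
  split_ifs <;>
    first
      | exact h.tt
      | exact h.y2
      | (rw [← map_mul, r1, map_one])
      | (rw [← map_mul, r2, map_one])
      | (rw [← map_mul, r3, map_one])
      | (rw [← map_mul, one_mul, map_one])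

omit [Finite G] [IsSimpleGroup G] in
theorem wprod_sOf : ∀ L : List ℕ, (∀ x ∈ L, 1 ≤ x ∧ x ≤ 3) → wprod (sOf α t y) L = α (pWord L) := by
  intro L
  induction L with
  | nil => intro _; simp [wprod, pWord]
  | cons a L ih =>
    intro hL
    obtain ⟨ha, hL⟩ := List.forall_mem_cons.1 hL
    have e : wprod (sOf α t y) (a :: L) = sOf α t y a * wprod (sOf α t y) L := by simp [wprod]
    rw [e, ih hL, show pWord (a :: L) = pLetters a * pWord L by simp [pWord], map_mul]
    congr 1
    simp [sOf, show a ≠ 0 by omega, show a ≠ 4 by omega]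

end Std

theorem exists_std (hn : Nat.card G = 175560) : ∃ (α : A5 →* G) (t y : G), Std α t y := by
  have : Fact (Nat.Prime 2) := ⟨Nat.prime_two⟩
  have : Fact (Nat.Prime 5) := ⟨by norm_num⟩
  obtain ⟨t, ht⟩ := exists_prime_orderOf_dvd_card' (G := G) 2 (by rw [hn]; norm_num)
  obtain ⟨α, hα, hr, -⟩ := exists_alt hn ht
  have hc3 : orderOf (α (pU * pW)) = 3 := by
    rw [orderOf_injective α hα]
    have : Fact (Nat.Prime 3) := ⟨Nat.prime_three⟩
    exact orderOf_eq_prime (relations pV (by simp)).2.2.2.2.2.2.2.1 (relations pV (by simp)).2.2.2.2.2.2.2.2.1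
  set c := α (pU * pW) with hc
  obtain ⟨k, hk⟩ := exists_prime_orderOf_dvd_card' (G := Subgroup.centralizer ({c} : Set G)) 5
    (by rw [card_centralizer_three hn hc3]; norm_num)
  have hf : orderOf (k : G) = 5 := by rw [Subgroup.orderOf_coe, hk]
  have hfc : (k : G) * c = c * k := Subgroup.mem_centralizer_singleton_iff.1 k.2
  set f := (k : G)
  have tt := invol_mul_self ht
  have htc : Commute c t := Aof_commute (hr ▸ ⟨pU * pW, rfl⟩)
  have htf : orderOf (t * f * t) = 5 := by
    have h : t * f * t = MulAut.conj t f := by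
      rw [MulAut.conj_apply, inv_eq_of_mul_eq_one_right tt]
    rw [h, MulEquiv.orderOf_eq, hf]
  have hcomm : (t * f * t) * c = c * (t * f * t) :=
    ((htc.symm.mul_left (show Commute f c from hfc)).mul_left htc.symm).eq
  rcases fix_or_invert tt hf (five_mem_zpowers hn hc3 hf htf hfc hcomm) with h | h
  · exfalso
    have htf' : Commute t f := by
      show t * f = f * t
      calc t * f = t * f * (t * t) := by rw [tt, mul_one]
        _ = t * f * t * t := by group
        _ = f * t := by rw [h]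
    refine no_ten_three hn hc3 (g := t * f) ?_ ((htc.symm.mul_left (show Commute f c from hfc)).eq)
    rw [htf'.orderOf_mul_eq_mul_orderOf_of_coprime (by rw [ht, hf]; norm_num), ht, hf]
  · refine ⟨α, t, t * f, hα, hr, ht, ?_, ?_, ?_, ?_⟩
    · rw [show t * f * (t * f) = t * f * t * f by group, h, inv_mul_cancel]
    · rw [← mul_assoc, tt, one_mul, ← hf, pow_orderOf_eq_one]
    · rw [← mul_assoc, tt, one_mul]
      intro e; rw [e, orderOf_one] at hf; norm_num at hf
    · exact (htc.symm.mul_left (show Commute f c from hfc)).eq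

/-- The letter `u` centralizes or the product with `t` centralizes. -/
theorem Std.dichotomy (hn : Nat.card G = 175560) {α : A5 →* G} {t y : G} (h : Std α t y) :
    α pU * y = y * α pU ∨ (t * α pU) * y = y * (t * α pU) := by
  have : Fact (Nat.Prime 3) := ⟨Nat.prime_three⟩
  obtain ⟨r1, -, r2, -, r3, r4, -, r5, r5', -⟩ := relations pV (by simp)
  set c := α (pU * pW) with hc
  have hc3 : orderOf c = 3 := by
    rw [hc, orderOf_injective α h.inj]; exact orderOf_eq_prime r5 r5'
  set u := α pU
  set f := t * y with hf'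
  have uu : u * u = 1 := by rw [← map_mul, r1, map_one]
  have ui : u⁻¹ = u := inv_eq_of_mul_eq_one_right uu
  have hf : orderOf f = 5 := by
    have : Fact (Nat.Prime 5) := ⟨by norm_num⟩
    exact orderOf_eq_prime h.ty5 h.ty1
  have hfc : Commute f c := (h.tcomm _).symm.mul_left (show Commute y c from h.yc)
  have hcu : u * c * u = c⁻¹ := by
    refine eq_inv_of_mul_eq_one_left ?_
    rw [hc, ← map_mul, ← map_mul, ← map_mul,
      show pU * (pU * pW) * pU * (pU * pW) = (pU * pU) * pW * (pU * pU) * pW by group, r1, one_mul,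
      mul_one, r3, map_one]
  have hfu : Commute (u * f * u) c := by
    have h1 : Commute (u * f * u⁻¹) (u * c⁻¹ * u⁻¹) := (Commute.conj_iff u).2 hfc.inv_right
    rw [show u * c⁻¹ * u⁻¹ = (u * c * u⁻¹)⁻¹ by group, ui, hcu, inv_inv] at h1
    exact h1
  have ho : orderOf (u * f * u) = 5 := by
    have h : u * f * u = MulAut.conj u f := by rw [MulAut.conj_apply, ui]
    rw [h, MulEquiv.orderOf_eq, hf]
  have hut : Commute u t := h.tcomm pU
  rcases fix_or_invert uu hf (five_mem_zpowers hn hc3 hf ho hfc hfu.eq) with e | e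
  · refine Or.inl ?_
    have huf : Commute u f := by
      show u * f = f * u
      calc u * f = u * f * (u * u) := by rw [uu, mul_one]
        _ = u * f * u * u := by group
        _ = f * u := by rw [e]
    have : Commute u (t * f) := hut.mul_right huf
    rwa [hf', ← mul_assoc t t y, h.tt, one_mul] at this
  · refine Or.inr ?_
    have huf : u * f = f⁻¹ * u := by
      calc u * f = u * f * (u * u) := by rw [uu, mul_one]
        _ = u * f * u * u := by group
        _ = f⁻¹ * u := by rw [e]
    have hy : y = t * f := by rw [hf', ← mul_assoc, h.tt, one_mul]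
    have hfi : f⁻¹ = y * t := by
      rw [hf', mul_inv_rev, inv_eq_of_mul_eq_one_right h.y2, inv_eq_of_mul_eq_one_right h.tt]
    calc t * u * y = t * u * (t * f) := by rw [hy]
      _ = u * f := by rw [hut.symm.eq, mul_assoc, ← mul_assoc t t, h.tt, one_mul]
      _ = f⁻¹ * u := huf
      _ = y * (t * u) := by rw [hfi, mul_assoc]

/-- The second letter can be chosen in the derived centralizer of an involution of the four-group. -/
theorem Std.choose_v (hn : Nat.card G = 175560) {α : A5 →* G} {t y : G} (h : Std α t y) {i : G}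
    (hi : orderOf i = 2) (hc : i * α pU = α pU * i) (hcV : i * α pV = α pV * i)
    (hu : α pU ∉ Aof i) :
    ∃ β : A5 →* G, Std β t y ∧ β pU = α pU ∧ β pW = α pW ∧ β pV ∈ Aof i := by
  obtain ⟨γ, -, -, hdec⟩ := exists_alt hn hi
  by_cases hv : α pV ∈ Aof i
  · exact ⟨α, h, rfl, rfl, hv⟩
  refine ⟨α.comp tau, ⟨h.inj.comp (MulAut.conjNormal (Equiv.swap (0 : Fin 5) 1)).injective, ?_, h.ord,
    h.y2, h.ty5, h.ty1, ?_⟩, by simp [tau_val.1], by simp [tau_val.2.2], ?_⟩
  · rw [MonoidHom.range_comp, show tau.range = ⊤ from MonoidHom.range_eq_top.2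
      (MulAut.conjNormal (Equiv.swap (0 : Fin 5) 1)).surjective, ← MonoidHom.range_eq_map]
    exact h.range
  · simp only [MonoidHom.comp_apply, map_mul, tau_val.1, tau_val.2.2]
    simpa [map_mul] using h.yc
  · simp only [MonoidHom.comp_apply, tau_val.2.1, map_mul]
    have h1 := (hdec _ hc.symm).resolve_left hu
    have h2 := (hdec _ hcV.symm).resolve_left hv
    have := mul_mem h1 h2
    rwa [show i * α pU * (i * α pV) = α pU * α pV by
      rw [hc, mul_assoc, ← mul_assoc i i, invol_mul_self hi, one_mul]] at this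

end CfsgLib.KnownA.OneSevenFive
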