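import Cfsg.Agent.Lib.KnownA.OneSevenFive.Tally
import Cfsg.Agent.Lib.InvChar.SimpleInvol

/-!
The involutions of a simple group of order 175560: there is one class of 1463 of them.
-/

set_option autoImplicit false

namespace CfsgLib.KnownA.OneSevenFive

open scoped _root_.Classical

universe u

variable {G : Type u} [Group G] [Finite G]

theorem commute_of_index_two {C : Subgroup G} {y : G} (hy : y ∈ C)
    (hidx : (Subgroup.zpowers (⟨y, hy⟩ : C)).index = 2)
    (hc : ∀ g ∈ C, g * y = y * g) : ∀ a ∈ C, ∀ b ∈ C, a * b = b * a := by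
  have hcz : ∀ g ∈ C, ∀ i : ℤ, Commute g (y ^ i) := fun g hg i => (show Commute g y from hc g hg).zpow_right i
  intro a ha b hb
  by_cases haz : (⟨a, ha⟩ : C) ∈ Subgroup.zpowers (⟨y, hy⟩ : C)
  · obtain ⟨i, hi⟩ := haz
    have : a = y ^ i := (congrArg (fun z : C => (z : G)) hi).symm.trans (by simp)
    rw [this]; exact (hcz b hb i).eq.symm
  by_cases hbz : (⟨b, hb⟩ : C) ∈ Subgroup.zpowers (⟨y, hy⟩ : C)
  · obtain ⟨i, hi⟩ := hbz
    have : b = y ^ i := (congrArg (fun z : C => (z : G)) hi).symm.trans (by simp)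
    rw [this]; exact (hcz a ha i).eq
  have h := (Subgroup.mul_mem_iff_of_index_two hidx (a := (⟨a, ha⟩ : C)) (b := ⟨b, hb⟩)).2
    ⟨fun h => absurd h haz, fun h => absurd h hbz⟩
  obtain ⟨i, hi⟩ := h
  have hab : a * b = y ^ i := (congrArg (fun z : C => (z : G)) hi).symm.trans (by simp)
  have hb' : b = a⁻¹ * y ^ i := by rw [← hab, inv_mul_cancel_left]
  rw [hb']
  exact (((Commute.refl a).inv_right).mul_right (hcz a ha i)).eq

variable [IsSimpleGroup G]

/-- No cyclic subgroup of order four has the whole Sylow subgroup in its centralizer. -/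
theorem card_centralizer_order_four (hn : Nat.card G = 175560) {y : G} (hy : orderOf y = 4) :
    Nat.card (Subgroup.centralizer ({y} : Set G)) = 4 := by
  obtain ⟨h19, h11, h7, h5, h3⟩ := exists_sel hn
  set C := Subgroup.centralizer ({y} : Set G) with hCdef
  have hyC : y ∈ C := Subgroup.mem_centralizer_singleton_iff.2 rfl
  have hodd : ∀ p ∈ primeList, ¬ p ∣ Nat.card C := by
    intro p hp hd
    have := Fact.mk (sieve_all hp).1
    obtain ⟨k, hk⟩ := exists_prime_orderOf_dvd_card' (G := C) p hd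
    have hko : orderOf (k : G) = p := by rw [Subgroup.orderOf_coe, hk]
    have hmem : y ∈ Subgroup.centralizer ({(k : G)} : Set G) :=
      Subgroup.mem_centralizer_singleton_iff.2 (Subgroup.mem_centralizer_singleton_iff.1 k.2).symm
    have h := Subgroup.orderOf_dvd_natCard _ hmem
    simp only [primeList, List.mem_cons, List.not_mem_nil, or_false] at hp
    rcases hp with rfl | rfl | rfl | rfl | rfl
    · rw [h19.2 _ hko, hy] at h; norm_num at h
    · rw [h11.2 _ hko, hy] at h; norm_num at h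
    · rcases h7 with h' | h' <;> rw [h'.2 _ hko, hy] at h <;> norm_num at h
    · rcases h5 with h' | h' <;> rw [h'.2 _ hko, hy] at h <;> norm_num at h
    · rw [h3.2 _ hko, hy] at h; norm_num at h
  have h8 : Nat.card C ∣ 8 := by
    have h := Subgroup.card_subgroup_dvd_card C
    rw [hn, show 175560 = 8 * (3 * 5 * 7 * 11 * 19) by norm_num] at h
    refine Nat.Coprime.dvd_of_dvd_mul_right ?_ h
    simp only [Nat.coprime_mul_iff_right]
    refine ⟨⟨⟨⟨?_, ?_⟩, ?_⟩, ?_⟩, ?_⟩ <;>
      exact ((Nat.Prime.coprime_iff_not_dvd (by norm_num)).2 (hodd _ (by simp [primeList]))).symm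
  have h4 : 4 ∣ Nat.card C := hy ▸ Subgroup.orderOf_dvd_natCard _ hyC
  have := Nat.le_of_dvd (by norm_num) h8
  by_contra hne
  have hC8 : Nat.card C = 8 := by
    interval_cases h : Nat.card C <;> omega
  have : Fact (Nat.Prime 2) := ⟨Nat.prime_two⟩
  let P : Sylow 2 G := Sylow.ofCard C (by
    rw [hC8, hn, show 175560 = 2 ^ 3 * 21945 by norm_num,
      Nat.factorization_mul (by norm_num) (by norm_num), Finsupp.add_apply,
      Nat.Prime.factorization_pow Nat.prime_two, Finsupp.single_eq_same,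
      Nat.factorization_eq_zero_of_not_dvd (by norm_num : ¬ 2 ∣ 21945)]
    rfl)
  have hPC : (P : Subgroup G) = C := Sylow.coe_ofCard _ _
  have hab := commute_of_index_two hyC (by
    have h := (Subgroup.zpowers (⟨y, hyC⟩ : C)).card_mul_index
    rw [Nat.card_zpowers, Subgroup.orderOf_mk, hy, hC8] at h
    omega) (fun g hg => Subgroup.mem_centralizer_singleton_iff.1 hg)
  have hmul : IsMulCommutative (P : Subgroup G) :=
    ⟨⟨fun a b => Subtype.ext (hab _ (hPC ▸ a.2) _ (hPC ▸ b.2))⟩⟩
  set z := y ^ 2 with hz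
  have hzo : orderOf z = 2 := by rw [hz, orderOf_pow_of_dvd two_ne_zero (by rw [hy]; norm_num), hy]
  have hzC : z ∈ C := pow_mem hyC 2
  have hzP : z ∈ (P : Subgroup G) := by rw [hPC]; exact hzC
  have hyP : y ∈ (P : Subgroup G) := by rw [hPC]; exact hyC
  obtain ⟨v, hv, hvP, hvz⟩ := CfsgLib.InvChar.exists_other_conj_mem_sylow (not_comm hn) P hzo hzP
  obtain ⟨g, rfl⟩ := isConj_iff.1 hv
  obtain ⟨n, hnN, hnv⟩ := Sylow.conj_eq_normalizer_conj_of_mem P z g⁻¹ hzP
    (by rw [inv_inv]; exact hvP)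
  rw [inv_inv] at hnv
  have hny : n⁻¹ * y * n ∈ (P : Subgroup G) := by
    have h := ((Subgroup.mem_normalizer_iff).1 (inv_mem hnN) y).1 hyP
    rwa [inv_inv] at h
  have hsq : (n⁻¹ * y * n) ^ 2 = g * z * g⁻¹ := by
    rw [hnv, hz, pow_two, pow_two]; group
  -- the squaring map of the Sylow subgroup
  let f : (P : Subgroup G) →* (P : Subgroup G) :=
    { toFun := fun a => a ^ 2
      map_one' := one_pow 2
      map_mul' := fun a b => (show Commute a b from mul_comm' a b).mul_pow 2 }
  have hcard := Subgroup.card_mul_index f.ker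
  rw [Subgroup.index_ker] at hcard
  have h3' : ∀ K : Subgroup (P : Subgroup G), (⟨z, hzP⟩ : (P : Subgroup G)) ∈ K →
      (⟨g * z * g⁻¹, hvP⟩ : (P : Subgroup G)) ∈ K → 3 ≤ Nat.card K := by
    intro K a b
    have hne1 : z ≠ 1 := fun h => by simp [h] at hzo
    have hne2 : g * z * g⁻¹ ≠ 1 := fun h => hne1 (conj_eq_one_iff.1 h)
    let e : Fin 3 → K := ![1, ⟨_, a⟩, ⟨_, b⟩]
    have he : Function.Injective e := by
      intro i j hij
      have h := congrArg (fun w : K => ((w : (P : Subgroup G)) : G)) hij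
      fin_cases i <;> fin_cases j <;> simp [e, hne1, hne2, hne1.symm, hne2.symm, hvz, hvz.symm] at h ⊢
    simpa using Nat.card_le_card_of_injective e he
  have hker : ∀ a : (P : Subgroup G), orderOf (a : G) = 2 → a ∈ f.ker := fun a ha => by
    rw [MonoidHom.mem_ker]
    refine Subtype.ext ?_
    show (a : G) ^ 2 = 1
    have h := pow_orderOf_eq_one (a : G)
    rwa [ha] at h
  have hk := h3' f.ker (hker _ hzo) (hker _ (by
    show orderOf (g * z * g⁻¹) = 2
    rw [show orderOf (g * z * g⁻¹) = orderOf z from MulEquiv.orderOf_eq (MulAut.conj g) z, hzo]))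
  have hr := h3' f.range ⟨⟨y, hyP⟩, Subtype.ext hz.symm⟩ ⟨⟨_, hny⟩, Subtype.ext hsq⟩
  have hc8 : Nat.card (P : Subgroup G) = 8 := by rw [hPC, hC8]
  rw [hc8] at hcard
  have := Nat.mul_le_mul hk hr
  omega

/-- The nontrivial `2`-elements are involutions. -/
theorem sq_eq_one_of_twoElts (hn : Nat.card G = 175560) {g : G} (hg : g ∈ twoElts G) : g ^ 2 = 1 := by
  obtain ⟨-, hodd⟩ := hg
  have hdvd : orderOf g ∣ 8 := by
    have h := orderOf_dvd_natCard g
    rw [hn, show 175560 = 8 * (3 * 5 * 7 * 11 * 19) by norm_num] at h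
    refine Nat.Coprime.dvd_of_dvd_mul_right ?_ h
    simp only [Nat.coprime_mul_iff_right]
    refine ⟨⟨⟨⟨?_, ?_⟩, ?_⟩, ?_⟩, ?_⟩ <;>
      exact ((Nat.Prime.coprime_iff_not_dvd (by norm_num)).2 (hodd _ (by simp [primeList]))).symm
  rw [← orderOf_dvd_iff_pow_eq_one]
  obtain ⟨k, hk, hgk⟩ := (Nat.dvd_prime_pow (m := 3) Nat.prime_two).1 hdvd
  rw [hgk]
  by_contra hbig
  have hk2 : 2 ≤ k := by
    by_contra h
    exact hbig ((pow_dvd_pow 2 (show k ≤ 1 by omega)).trans (by norm_num))
  obtain ⟨y, hy⟩ : ∃ y : G, orderOf y = 4 :=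
    ⟨g ^ (2 ^ (k - 2)), by
      rw [orderOf_pow_of_dvd (by positivity) (hgk ▸ pow_dvd_pow 2 (by omega)), hgk,
        Nat.pow_div (by omega) two_pos, show k - (k - 2) = 2 by omega]; norm_num⟩
  have hC := card_centralizer_order_four hn hy
  obtain ⟨c₇, c₅, d, hc₇, hc₅, hd1, -, -, -, hR⟩ := exists_count hn
  have hidx : (Subgroup.centralizer ({y} : Set G)).index = 43890 := by
    have h := (Subgroup.centralizer ({y} : Set G)).card_mul_index
    rw [hC, hn] at h
    omega
  have hle : 43890 ≤ Nat.card (twoElts G) := by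
    rw [← hidx, Subgroup.index]
    refine Nat.card_le_card_of_injective (Quotient.lift (fun a : G => (⟨a * y * a⁻¹, ?_, ?_⟩ : twoElts G)) ?_) ?_
    · intro h
      rw [conj_eq_one_iff] at h
      simp [h] at hy
    · intro p hp h
      rw [show orderOf (a * y * a⁻¹) = orderOf y from MulEquiv.orderOf_eq (MulAut.conj a) y, hy] at h
      simp only [primeList, List.mem_cons, List.not_mem_nil, or_false] at hp
      rcases hp with rfl | rfl | rfl | rfl | rfl <;> norm_num at h
    · intro a b hab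
      have h := Subgroup.mem_centralizer_singleton_iff.1 (QuotientGroup.leftRel_apply.1 hab)
      refine Subtype.ext ?_
      show a * y * a⁻¹ = b * y * b⁻¹
      calc a * y * a⁻¹ = a * (y * (a⁻¹ * b)) * b⁻¹ := by group
        _ = a * (a⁻¹ * b * y) * b⁻¹ := by rw [h]
        _ = b * y * b⁻¹ := by group
    · intro a b
      induction a using QuotientGroup.induction_on with | _ a => ?_
      induction b using QuotientGroup.induction_on with | _ b => ?_
      intro h
      have h' : a * y * a⁻¹ = b * y * b⁻¹ := congrArg Subtype.val h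
      rw [QuotientGroup.eq, Subgroup.mem_centralizer_singleton_iff]
      calc a⁻¹ * b * y = a⁻¹ * (b * y * b⁻¹) * b := by group
        _ = a⁻¹ * (a * y * a⁻¹) * b := by rw [h']
        _ = y * (a⁻¹ * b) := by group
  omega

/-- The Sylow `2`-subgroups have exponent two. -/
theorem sylow_sq (hn : Nat.card G = 175560) (P : Sylow 2 G) {g : G} (hg : g ∈ P) : g ^ 2 = 1 := by
  by_cases h1 : g = 1
  · simp [h1]
  refine sq_eq_one_of_twoElts hn ⟨h1, fun p hp h => ?_⟩
  have : Fact (Nat.Prime 2) := ⟨Nat.prime_two⟩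
  obtain ⟨k, hk⟩ := IsPGroup.iff_orderOf.1 P.2 ⟨g, hg⟩
  rw [Subgroup.orderOf_mk] at hk
  rw [hk] at h
  have := (Nat.prime_dvd_prime_iff_eq (sieve_all hp).1 Nat.prime_two).1
    ((sieve_all hp).1.dvd_of_dvd_pow h)
  subst this
  simp [primeList] at hp

theorem sylow_comm (hn : Nat.card G = 175560) (P : Sylow 2 G) {a b : G} (ha : a ∈ P) (hb : b ∈ P) :
    a * b = b * a := by
  have i : ∀ c : G, c ∈ (P : Subgroup G) → c⁻¹ = c := fun c hc =>
    inv_eq_of_mul_eq_one_right (by rw [← pow_two]; exact sylow_sq hn P hc)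
  have h := i _ (mul_mem ha hb)
  rw [mul_inv_rev, i a ha, i b hb] at h
  exact h.symm

theorem card_sylow_two (hn : Nat.card G = 175560) (P : Sylow 2 G) : Nat.card P = 8 := by
  have : Fact (Nat.Prime 2) := ⟨Nat.prime_two⟩
  rw [Sylow.card_eq_multiplicity, hn, show 175560 = 2 ^ 3 * 21945 by norm_num,
    Nat.factorization_mul (by norm_num) (by norm_num), Finsupp.add_apply,
    Nat.Prime.factorization_pow Nat.prime_two, Finsupp.single_eq_same,
    Nat.factorization_eq_zero_of_not_dvd (by norm_num : ¬ 2 ∣ 21945)]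
  rfl

/-- Two involutions of a Sylow subgroup are conjugate. -/
theorem conj_in_sylow (hn : Nat.card G = 175560) (P : Sylow 2 G) {a b : G} (ha : a ∈ P) (ha1 : a ≠ 1)
    (hb : b ∈ P) (hb1 : b ≠ 1) : IsConj a b := by
  have : Fact (Nat.Prime 2) := ⟨Nat.prime_two⟩
  have hmul : IsMulCommutative (P : Subgroup G) :=
    ⟨⟨fun x y => Subtype.ext (sylow_comm hn P x.2 y.2)⟩⟩
  set N := Subgroup.normalizer ((P : Subgroup G) : Set G) with hN
  let X := {x : G // x ∈ P ∧ x ≠ 1}
  let O : X → Set X := fun x => {z | ∃ n ∈ N, n * x.1 * n⁻¹ = z.1}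
  have hX : Nat.card X = 7 := by
    have h : Nat.card X = Nat.card {x : (P : Subgroup G) // x ≠ 1} :=
      Nat.card_congr ⟨fun x => ⟨⟨x.1, x.2.1⟩, fun h => x.2.2 (congrArg Subtype.val h)⟩,
        fun x => ⟨x.1.1, x.1.2, fun h => x.2 (Subtype.ext h)⟩, fun _ => rfl, fun _ => rfl⟩
    have h8 := card_sylow_two hn P
    have := Fintype.ofFinite (P : Subgroup G)
    rw [h, Nat.card_eq_fintype_card, Fintype.card_subtype_compl, Fintype.card_subtype_eq,
      ← Nat.card_eq_fintype_card, h8]
  have horb : ∀ x : X, Odd (Nat.card (O x)) ∧ 2 ≤ Nat.card (O x) := by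
    intro x
    let K : Subgroup N := (Subgroup.centralizer ({x.1} : Set G)).subgroupOf N
    have hbij : Nat.card (O x) = K.index := by
      refine (Nat.card_eq_of_bijective (Quotient.lift (fun n : N => (⟨⟨n.1 * x.1 * n.1⁻¹,
        ((Subgroup.mem_normalizer_iff).1 n.2 x.1).1 x.2.1, fun h => x.2.2 (conj_eq_one_iff.1 h)⟩,
          n.1, n.2, rfl⟩ : O x)) ?_) ⟨?_, ?_⟩).symm
      · intro m n hmn
        have h := Subgroup.mem_centralizer_singleton_iff.1
          (Subgroup.mem_subgroupOf.1 (QuotientGroup.leftRel_apply.1 hmn))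
        simp only [Subgroup.coe_mul, Subgroup.coe_inv] at h
        refine Subtype.ext (Subtype.ext ?_)
        show m.1 * x.1 * m.1⁻¹ = n.1 * x.1 * n.1⁻¹
        calc m.1 * x.1 * m.1⁻¹ = m.1 * (x.1 * (m.1⁻¹ * n.1)) * n.1⁻¹ := by group
          _ = m.1 * (m.1⁻¹ * n.1 * x.1) * n.1⁻¹ := by rw [h]
          _ = n.1 * x.1 * n.1⁻¹ := by group
      · intro m n
        induction m using QuotientGroup.induction_on with | _ m => ?_
        induction n using QuotientGroup.induction_on with | _ n => ?_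
        intro h
        have h' : m.1 * x.1 * m.1⁻¹ = n.1 * x.1 * n.1⁻¹ := congrArg (fun z => z.1.1) h
        rw [QuotientGroup.eq, Subgroup.mem_subgroupOf, Subgroup.mem_centralizer_singleton_iff]
        simp only [Subgroup.coe_mul, Subgroup.coe_inv]
        calc m.1⁻¹ * n.1 * x.1 = m.1⁻¹ * (n.1 * x.1 * n.1⁻¹) * n.1 := by group
          _ = m.1⁻¹ * (m.1 * x.1 * m.1⁻¹) * n.1 := by rw [h']
          _ = x.1 * (m.1⁻¹ * n.1) := by group
      · rintro ⟨z, n, hn', hz⟩
        exact ⟨QuotientGroup.mk (⟨n, hn'⟩ : N), Subtype.ext (Subtype.ext hz)⟩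
    refine ⟨?_, ?_⟩
    · have hle : (P : Subgroup G).subgroupOf N ≤ K := by
        intro m hm
        rw [Subgroup.mem_subgroupOf] at hm ⊢
        exact Subgroup.mem_centralizer_singleton_iff.2 (sylow_comm hn P hm x.2.1)
      have hd := Subgroup.index_dvd_of_le hle
      rw [hbij, Nat.odd_iff]
      have h2 : ¬ 2 ∣ (P : Subgroup G).index := P.not_dvd_index
      have h3 : ((P : Subgroup G).subgroupOf N).index ∣ (P : Subgroup G).index :=
        Subgroup.relIndex_dvd_index_of_le Subgroup.le_normalizer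
      by_contra h
      exact h2 ((Nat.dvd_of_mod_eq_zero (by omega)).trans (hd.trans h3))
    · have hxo : orderOf x.1 = 2 := orderOf_eq_prime (sylow_sq hn P x.2.1) x.2.2
      obtain ⟨v, hv, hvP, hvx⟩ := CfsgLib.InvChar.exists_other_conj_mem_sylow (not_comm hn) P hxo x.2.1
      obtain ⟨g, rfl⟩ := isConj_iff.1 hv
      obtain ⟨n, hnN, hnv⟩ := Sylow.conj_eq_normalizer_conj_of_mem P x.1 g⁻¹ x.2.1
        (by rw [inv_inv]; exact hvP)
      rw [inv_inv] at hnv
      have hne : Nat.card (O x) ≠ 0 := by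
        have : Nonempty (O x) := ⟨⟨x, 1, one_mem _, by simp⟩⟩
        exact Nat.card_pos.ne'
      have h1 : Nat.card (O x) ≠ 1 := by
        intro h
        have := (Nat.card_eq_one_iff_unique.1 h).1
        let a₁ : O x := ⟨x, 1, one_mem _, by simp⟩
        let a₂ : O x := ⟨⟨g * x.1 * g⁻¹, hvP, fun h => x.2.2 (conj_eq_one_iff.1 h)⟩, n⁻¹, inv_mem hnN, by
          rw [inv_inv]; exact hnv.symm⟩
        exact hvx (congrArg (fun z : O x => z.1.1) (Subsingleton.elim a₂ a₁))
      omega
  have hdisj : ∀ x y : X, y ∉ O x → Disjoint (O x) (O y) := by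
    intro x y hy
    rw [Set.disjoint_left]
    rintro z ⟨m, hm, hmz⟩ ⟨n, hn', hnz⟩
    refine hy ⟨n⁻¹ * m, mul_mem (inv_mem hn') hm, ?_⟩
    rw [mul_inv_rev, inv_inv]
    calc n⁻¹ * m * x.1 * (m⁻¹ * n) = n⁻¹ * (m * x.1 * m⁻¹) * n := by group
      _ = n⁻¹ * (n * y.1 * n⁻¹) * n := by rw [hmz, hnz]
      _ = y.1 := by group
  let x : X := ⟨a, ha, ha1⟩
  by_cases hbO : (⟨b, hb, hb1⟩ : X) ∈ O x
  · obtain ⟨n, -, hn'⟩ := hbO
    exact isConj_iff.2 ⟨n, hn'⟩
  exfalso
  set y : X := ⟨b, hb, hb1⟩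
  obtain ⟨o1, l1⟩ := horb x
  obtain ⟨o2, l2⟩ := horb y
  have hxy := hdisj x y hbO
  rw [Nat.card_coe_set_eq] at o1 l1 o2 l2
  rw [Nat.odd_iff] at o1 o2
  by_cases hall : O x ∪ O y = Set.univ
  · have h := congrArg Set.ncard hall
    rw [Set.ncard_union_eq hxy, Set.ncard_univ, hX] at h
    omega
  · obtain ⟨z, hz⟩ := (Set.ne_univ_iff_exists_notMem _).1 hall
    rw [Set.mem_union, not_or] at hz
    obtain ⟨o3, l3⟩ := horb z
    rw [Nat.card_coe_set_eq] at o3 l3
    rw [Nat.odd_iff] at o3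
    have h : (O x ∪ O y ∪ O z).ncard = (O x).ncard + (O y).ncard + (O z).ncard := by
      rw [Set.ncard_union_eq (Set.disjoint_union_left.2 ⟨hdisj x z hz.1, hdisj y z hz.2⟩),
        Set.ncard_union_eq hxy]
    have h7 := Set.ncard_le_ncard (Set.subset_univ (O x ∪ O y ∪ O z))
    rw [Set.ncard_univ, hX, h] at h7
    omega

/-- There is a single class of involutions. -/
theorem invol_conj (hn : Nat.card G = 175560) {a b : G} (ha : orderOf a = 2) (hb : orderOf b = 2) :
    IsConj a b := by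
  have : Fact (Nat.Prime 2) := ⟨Nat.prime_two⟩
  obtain ⟨P, hP⟩ := (IsPGroup.of_card (n := 1) (by rw [Nat.card_zpowers, ha, pow_one]) :
    IsPGroup 2 (Subgroup.zpowers a)).exists_le_sylow
  obtain ⟨Q, hQ⟩ := (IsPGroup.of_card (n := 1) (by rw [Nat.card_zpowers, hb, pow_one]) :
    IsPGroup 2 (Subgroup.zpowers b)).exists_le_sylow
  obtain ⟨g, hg⟩ := MulAction.exists_smul_eq G Q P
  have hmem : g * b * g⁻¹ ∈ P := by rw [← hg]; exact ⟨b, hQ (Subgroup.mem_zpowers b), rfl⟩
  have hne : ∀ c : G, orderOf c = 2 → c ≠ 1 := fun c hc h => by simp [h] at hc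
  exact (conj_in_sylow hn P (hP (Subgroup.mem_zpowers a)) (hne a ha) hmem
    (fun h => hne b hb (conj_eq_one_iff.1 h))).trans (isConj_iff.2 ⟨g⁻¹, by group⟩)

/-- The numerical structure. -/
theorem numbers (hn : Nat.card G = 175560) :
    (∀ t : G, orderOf t = 2 → Nat.card (Subgroup.centralizer ({t} : Set G)) = 120) ∧
      Nat.card {s : G // orderOf s = 2} = 1463 ∧
      (∀ x : G, orderOf x = 5 → Nat.card (Subgroup.centralizer ({x} : Set G)) = 30 ∧
        regCount 5 (fun g => ¬ 3 ∣ orderOf g) x = 4) := by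
  have : Fact (Nat.Prime 2) := ⟨Nat.prime_two⟩
  obtain ⟨c₇, c₅, d, hc₇, hc₅, hd1, hd, -, h5, hR⟩ := exists_count hn
  have hinv : twoElts G = {s : G | orderOf s = 2} := by
    ext s
    rw [Set.mem_ofPred_eq]
    constructor
    · exact fun hs => orderOf_eq_prime (sq_eq_one_of_twoElts hn hs) hs.1
    · intro hs
      refine ⟨fun h => by simp [h] at hs, fun p hp h => ?_⟩
      rw [hs] at h
      have := (Nat.prime_dvd_prime_iff_eq (sieve_all hp).1 Nat.prime_two).1 h
      subst this
      simp [primeList] at hp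
  rw [hinv] at hR
  obtain ⟨t, ht⟩ := exists_prime_orderOf_dvd_card' (G := G) 2 (by rw [hn]; norm_num)
  set R := Nat.card ({s : G | orderOf s = 2} : Set G) with hRdef
  have hRc : R * Nat.card (Subgroup.centralizer ({t} : Set G)) = 175560 := by
    have hset : {s : G | orderOf s = 2} = {s : G | IsConj t s} := by
      ext s
      simp only [Set.mem_ofPred_eq]
      refine ⟨fun hs => invol_conj hn ht hs, fun h => ?_⟩
      obtain ⟨g, rfl⟩ := isConj_iff.1 h
      rw [show orderOf (g * t * g⁻¹) = orderOf t from MulEquiv.orderOf_eq (MulAut.conj g) t, ht]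
    have horb : R = (Subgroup.centralizer ({t} : Set G)).index := by
      rw [hRdef, hset, Subgroup.index]
      refine (Nat.card_eq_of_bijective (Quotient.lift (fun a : G =>
        (⟨a * t * a⁻¹, isConj_iff.2 ⟨a, rfl⟩⟩ : {s : G | IsConj t s})) ?_) ⟨?_, ?_⟩).symm
      · intro a b hab
        have h := Subgroup.mem_centralizer_singleton_iff.1 (QuotientGroup.leftRel_apply.1 hab)
        refine Subtype.ext ?_
        show a * t * a⁻¹ = b * t * b⁻¹
        calc a * t * a⁻¹ = a * (t * (a⁻¹ * b)) * b⁻¹ := by group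
          _ = a * (a⁻¹ * b * t) * b⁻¹ := by rw [h]
          _ = b * t * b⁻¹ := by group
      · intro a b
        induction a using QuotientGroup.induction_on with | _ a => ?_
        induction b using QuotientGroup.induction_on with | _ b => ?_
        intro h
        have h' : a * t * a⁻¹ = b * t * b⁻¹ := congrArg Subtype.val h
        rw [QuotientGroup.eq, Subgroup.mem_centralizer_singleton_iff]
        calc a⁻¹ * b * t = a⁻¹ * (b * t * b⁻¹) * b := by group
          _ = a⁻¹ * (a * t * a⁻¹) * b := by rw [h']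
          _ = t * (a⁻¹ * b) := by group
      · rintro ⟨s, hs⟩
        obtain ⟨g, hg⟩ := isConj_iff.1 hs
        exact ⟨QuotientGroup.mk g, Subtype.ext hg⟩
    rw [horb, mul_comm, Subgroup.card_mul_index, hn]
  have hdvd : R ∣ 175560 := ⟨_, hRc.symm⟩
  have hkey : R = 1463 ∧ d = 4 := by
    have : R ≤ 73359 := by omega
    have : d ≤ 6 := by omega
    rcases hc₇ with rfl | rfl <;> interval_cases d <;>
      first
        | (have : R = 1463 := by omega
           exact ⟨this, rfl⟩)
        | omega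
        | (exfalso; revert hdvd; first
            | (rw [show R = 36575 by omega]; norm_num)
            | (rw [show R = 24871 by omega]; norm_num)
            | (rw [show R = 13167 by omega]; norm_num)
            | (rw [show R = 11495 by omega]; norm_num)
            | (rw [show R = 48279 by omega]; norm_num))
  refine ⟨fun s hs => ?_, by rw [← hkey.1, hRdef]; rfl, fun x hx => ?_⟩
  · obtain ⟨g, rfl⟩ := isConj_iff.1 (invol_conj hn ht hs)
    rw [card_centralizer_conj]
    rw [hkey.1] at hRc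
    omega
  · obtain ⟨h1, h2⟩ := h5 x hx
    refine ⟨?_, h2.trans hkey.2⟩
    rw [h1]
    rcases hc₅ with rfl | rfl
    · omega
    · rfl

end CfsgLib.KnownA.OneSevenFive
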