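import Cfsg.Agent.Lib.KnownA.OneSevenFive.Main
import Cfsg.Agent.Lib.StructC.JankoOneSimple

/-!
A simple group of order 175560 is the first Janko group.
-/

set_option autoImplicit false

namespace CfsgLib.KnownA.OneSevenFive

universe u

/-- A simple group of order 175560 is isomorphic to `J₁`. -/
theorem isoJ1_of_card {G : Type u} [Group G] [Finite G] [IsSimpleGroup G]
    (hG : Nat.card G = 175560) : Cfsg.Spor.IsoJ1 G := by
  have := CfsgLib.StructC.JankoOneSimple.isSimple_J
  exact nonempty_equiv (H := CfsgLib.KnownA.JankoOne.J) hG CfsgLib.KnownA.JankoOne.card_J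

end CfsgLib.KnownA.OneSevenFive
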