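import Cfsg.Agent.Lib.KnownA.OneSevenFive.Pres
import Mathlib.GroupTheory.NoncommCoprod

/-!
Any two simple groups of order 175560 are isomorphic.
-/

set_option autoImplicit false
set_option maxRecDepth 100000

namespace CfsgLib.KnownA.OneSevenFive

open CfsgLib.InvChar.Coset
open scoped _root_.Classical

attribute [local irreducible] pU pV pW

universe u v

theorem wprod_map {K L : Type*} [Monoid K] [Monoid L] (f : K →* L) (s : ℕ → K) (r : List ℕ) :
    wprod (fun x => f (s x)) r = f (wprod s r) := by
  simp [wprod, map_list_prod, Function.comp_def]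

/-- Any two simple groups of order 175560 are isomorphic. -/
theorem nonempty_equiv {G : Type u} {H : Type v} [Group G] [Finite G] [IsSimpleGroup G]
    [Group H] [Finite H] [IsSimpleGroup H] (hG : Nat.card G = 175560) (hH : Nat.card H = 175560) :
    Nonempty (G ≃* H) := by
  obtain ⟨α, t, y, hα, hc, hr⟩ := exists_rels (G := G) hG
  obtain ⟨α', t', y', hα', hc', hr'⟩ := exists_rels (G := H) hH
  have htop := closure_eq_top hG hα hc
  have htop' := closure_eq_top hH hα' hc'
  set s := sOf α t y with hs
  set s' := sOf α' t' y' with hs'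
  let σ : ℕ → G × H := fun x => (s x, s' x)
  set K := Subgroup.closure (σ '' Set.Iio 5) with hK
  let τ : ℕ → K := fun x => if hx : x < 5 then ⟨σ x, Subgroup.subset_closure ⟨x, hx, rfl⟩⟩ else 1
  have hτ : ∀ x < 5, (τ x : G × H) = σ x := fun x hx => by simp only [τ, dif_pos hx]
  have hτ2 : ∀ x, τ x * τ x = 1 := fun x => by
    by_cases hx : x < 5
    · refine Subtype.ext ?_
      rw [Subgroup.coe_mul, hτ x hx]
      exact Prod.ext (hα.sOf_sq x) (hα'.sOf_sq x)
    · simp [τ, hx]
  have hw : ∀ r : List ℕ, (∀ x ∈ r, x < 5) → ((wprod τ r : K) : G × H) = (wprod s r, wprod s' r) := by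
    intro r
    induction r with
    | nil => intro _; rfl
    | cons a r ih =>
      intro hra
      obtain ⟨ha, hra⟩ := List.forall_mem_cons.1 hra
      have e : wprod τ (a :: r) = τ a * wprod τ r := by simp [wprod]
      rw [e, Subgroup.coe_mul, ih hra, hτ a ha]
      simp [σ, wprod]
  have hlt : ∀ r ∈ relsI, ∀ x ∈ r, x < 5 := by decide
  have hR : ∀ r ∈ OneSevenFive.I.cert.rels, wprod τ r = 1 :=
    rels_of_rot hτ2 rot_I fun r hr0 => Subtype.ext (by
      rw [hw r (hlt r hr0), hr r hr0, hr' r hr0]; rfl)
  set S : Subgroup K := Subgroup.closure (τ '' Set.Iio 4) with hSdef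
  have hgen : Subgroup.closure (τ '' Set.Iio OneSevenFive.I.table.g) = ⊤ := by
    apply Subgroup.map_injective K.subtype_injective
    rw [MonoidHom.map_closure, ← MonoidHom.range_eq_map, Subgroup.range_subtype]
    have e : K.subtype '' (τ '' Set.Iio OneSevenFive.I.table.g) = σ '' Set.Iio 5 := by
      show K.subtype '' (τ '' Set.Iio 5) = σ '' Set.Iio 5
      rw [Set.image_image]
      exact Set.image_congr fun x hx => hτ x hx
    rw [e]
  have hsub : ∀ r ∈ OneSevenFive.I.cert.subs, wprod τ r ∈ S := by
    intro r hr0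
    have hr0 : r ∈ ([[0], [1], [2], [3]] : List (List ℕ)) := hr0
    simp only [List.mem_cons, List.not_mem_nil, or_false] at hr0
    rcases hr0 with rfl | rfl | rfl | rfl
    · exact Subgroup.subset_closure ⟨0, by norm_num, by simp [wprod]⟩
    · exact Subgroup.subset_closure ⟨1, by norm_num, by simp [wprod]⟩
    · exact Subgroup.subset_closure ⟨2, by norm_num, by simp [wprod]⟩
    · exact Subgroup.subset_closure ⟨3, by norm_num, by simp [wprod]⟩
  have hidx : S.index ≤ 1463 :=
    (OneSevenFive.I.covered.index_le τ S hτ2 hR hsub hgen).2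
  -- the small subgroup
  let αK : A5 →* G × H := α.prod α'
  let Z : Subgroup (G × H) := Subgroup.zpowers (t, t')
  have hcomm : ∀ (a : A5) (z : Z), Commute (αK a) (Z.subtype z) := by
    rintro a ⟨z, i, rfl⟩
    exact (show Commute (αK a) (t, t') from Prod.ext (hα.tcomm a).eq (hα'.tcomm a).eq).zpow_right i
  let φ : A5 × Z →* G × H := αK.noncommCoprod Z.subtype hcomm
  have hφ : S.map K.subtype ≤ φ.range := by
    rw [hSdef, MonoidHom.map_closure, Subgroup.closure_le]
    rintro _ ⟨_, ⟨x, hx, rfl⟩, rfl⟩
    have hx : x < 4 := hx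
    rw [Subgroup.coe_subtype, hτ x (by omega)]
    by_cases h0 : x = 0
    · subst h0
      exact ⟨(1, ⟨(t, t'), Subgroup.mem_zpowers _⟩), by simp [φ, σ, hs, hs', sOf]⟩
    · exact ⟨(pLetters x, 1), by simp [φ, αK, σ, hs, hs', sOf, h0, show x ≠ 4 by omega]⟩
  have hS : Nat.card S ≤ 120 := by
    have hZ : Nat.card Z ≤ 2 := by
      rw [Nat.card_zpowers]
      refine Nat.le_of_dvd two_pos (orderOf_dvd_of_pow_eq_one ?_)
      rw [pow_two]; exact Prod.ext hα.tt hα'.tt
    have hA : Nat.card A5 = 60 := by
      rw [nat_card_alternatingGroup]; simp [Nat.card_eq_fintype_card, Nat.factorial]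
    calc Nat.card S = Nat.card (S.map K.subtype) :=
          Nat.card_congr (Subgroup.equivMapOfInjective _ _ K.subtype_injective).toEquiv
      _ ≤ Nat.card φ.range := Nat.le_of_dvd Nat.card_pos (Subgroup.card_dvd_of_le hφ)
      _ ≤ Nat.card (A5 × Z) := Nat.card_le_card_of_surjective φ.rangeRestrict φ.rangeRestrict_surjective
      _ ≤ 120 := by rw [Nat.card_prod, hA]; omega
  have hKcard : Nat.card K ≤ 175560 := by
    rw [← Subgroup.index_mul_card S]
    calc S.index * Nat.card S ≤ 1463 * 120 := Nat.mul_le_mul hidx hS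
      _ = 175560 := by norm_num
  -- the projections
  have hfst : Function.Surjective ((MonoidHom.fst G H).comp K.subtype) := by
    rw [← MonoidHom.range_eq_top, MonoidHom.range_comp, Subgroup.range_subtype]
    show (Subgroup.closure (σ '' Set.Iio 5)).map _ = ⊤
    rw [MonoidHom.map_closure, Set.image_image]
    exact htop
  have hsnd : Function.Surjective ((MonoidHom.snd G H).comp K.subtype) := by
    rw [← MonoidHom.range_eq_top, MonoidHom.range_comp, Subgroup.range_subtype]
    show (Subgroup.closure (σ '' Set.Iio 5)).map _ = ⊤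
    rw [MonoidHom.map_closure, Set.image_image]
    exact htop'
  have h1 : Nat.card K = Nat.card G :=
    le_antisymm (hG.symm ▸ hKcard) (Nat.card_le_card_of_surjective _ hfst)
  have h2 : Nat.card K = Nat.card H :=
    le_antisymm (hH.symm ▸ hKcard) (Nat.card_le_card_of_surjective _ hsnd)
  let e1 : K ≃* G := MulEquiv.ofBijective _ (hfst.bijective_of_nat_card_le h1.le)
  let e2 : K ≃* H := MulEquiv.ofBijective _ (hsnd.bijective_of_nat_card_le h2.le)
  exact ⟨e1.symm.trans e2⟩

end CfsgLib.KnownA.OneSevenFive
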