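import Cfsg.Agent.Lib.KnownA.OneSevenFive.Cent
import Cfsg.Agent.Lib.KnownA.OneSevenFive.A5
import Mathlib.Combinatorics.SimpleGraph.DegreeSum

/-!
For commuting involutions `a ≠ b` exactly one lies in the derived centralizer of the other.
-/

set_option autoImplicit false

namespace CfsgLib.KnownA.OneSevenFive

open scoped _root_.Classical

universe u

variable {G : Type u} [Group G] [Finite G] [IsSimpleGroup G]

theorem invol_mul_self {G : Type u} [Group G] {x : G} (h : orderOf x = 2) : x * x = 1 := by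
  rw [← pow_two, ← h]; exact pow_orderOf_eq_one x

theorem invol_ne_one {G : Type u} [Group G] {x : G} (h : orderOf x = 2) : x ≠ 1 :=
  fun e => by simp [e] at h

theorem Aof_commute {G : Type u} [Group G] {t x : G} (h : x ∈ Aof t) : x * t = t * x :=
  Subgroup.mem_centralizer_singleton_iff.1 (Subgroup.commutator_le_self _ h)

/-- An involution of the derived centralizer is the image of a listed one. -/
theorem exists_listed {t : G} {α : A5 →* G} (hα : Function.Injective α) (hr : α.range = Aof t)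
    {x : G} (hx : x ∈ Aof t) (h2 : x * x = 1) (h1 : x ≠ 1) : ∃ p ∈ invList, α p = x := by
  rw [← hr] at hx
  obtain ⟨p, rfl⟩ := hx
  refine ⟨p, mem_invList p (hα ?_) ?_, rfl⟩
  · rw [map_mul, h2, map_one]
  · rintro rfl; exact h1 (map_one α)

theorem exists_mem_Aof (hn : Nat.card G = 175560) {t : G} (ht : orderOf t = 2) :
    ∃ a ∈ Aof t, orderOf a = 2 := by
  obtain ⟨α, hα, hr, -⟩ := exists_alt hn ht
  refine ⟨α pU, hr ▸ ⟨pU, rfl⟩, ?_⟩
  rw [orderOf_injective α hα]
  exact orderOf_eq_prime (by rw [pow_two]; exact (relations pV (by simp)).1) (relations pV (by simp)).2.1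

/-- Pairs with the second member in the derived centralizer of the first form one orbit. -/
theorem in_pairs_conj (hn : Nat.card G = 175560) {t a t' a' : G} (ht : orderOf t = 2)
    (ht' : orderOf t' = 2) (ha : orderOf a = 2) (ha' : orderOf a' = 2) (h : a ∈ Aof t)
    (h' : a' ∈ Aof t') : ∃ g : G, g * t * g⁻¹ = t' ∧ g * a * g⁻¹ = a' := by
  obtain ⟨g, hg⟩ := isConj_iff.1 (invol_conj hn ht ht')
  obtain ⟨α, hα, hr, -⟩ := exists_alt hn ht'
  have hb : g * a * g⁻¹ ∈ Aof t' := hg ▸ conj_mem_Aof h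
  have hbo : orderOf (g * a * g⁻¹) = 2 := (MulEquiv.orderOf_eq (MulAut.conj g) a).trans ha
  obtain ⟨p, hp, hp'⟩ := exists_listed hα hr hb (invol_mul_self hbo) (invol_ne_one hbo)
  obtain ⟨q, hq, hq'⟩ := exists_listed hα hr h' (invol_mul_self ha') (invol_ne_one ha')
  obtain ⟨c, hc⟩ := invList_conj p hp q hq
  have hct : Commute (α c) t' := Aof_commute (hr ▸ ⟨c, rfl⟩)
  refine ⟨α c * g, ?_, ?_⟩
  · calc α c * g * t * (α c * g)⁻¹ = α c * (g * t * g⁻¹) * (α c)⁻¹ := by group
      _ = t' := by rw [hg, hct.eq, mul_inv_cancel_right]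
  · calc α c * g * a * (α c * g)⁻¹ = α c * (g * a * g⁻¹) * (α c)⁻¹ := by group
      _ = a' := by rw [← hp', ← map_inv, ← map_mul, ← map_mul, hc, hq']

/-- Three involutions of a Sylow subgroup lie in the derived centralizer of a fourth. -/
theorem degree_three (hn : Nat.card G = 175560) (P : Sylow 2 G) {x : G} (hx : x ∈ P) (hx1 : x ≠ 1) :
    Nat.card {s : G // s ∈ P ∧ s ≠ 1 ∧ s ∈ Aof x} = 3 := by
  have hxo : orderOf x = 2 := orderOf_eq_prime (sylow_sq hn P hx) hx1
  obtain ⟨α, -, -, hdec⟩ := exists_alt hn hxo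
  set L : Subgroup G := (P : Subgroup G) ⊓ Aof x with hL
  have hxx := invol_mul_self hxo
  let f : Bool × L → (P : Subgroup G) := fun z =>
    bif z.1 then ⟨x * z.2.1, mul_mem hx z.2.2.1⟩ else ⟨z.2.1, z.2.2.1⟩
  have hnot := not_mem_Aof hn hxo
  have hf : Function.Bijective f := by
    constructor
    · rintro ⟨i, a, ha⟩ ⟨j, b, hb⟩ h
      have h' := congrArg (fun z : (P : Subgroup G) => (z : G)) h
      cases i <;> cases j <;> simp only [f, cond_true, cond_false] at h'
      · simp [h']
      · exact absurd (by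
          have h5 : a * b⁻¹ ∈ Aof x := mul_mem ha.2 (inv_mem hb.2)
          rwa [show a * b⁻¹ = x by rw [h', mul_inv_cancel_right]] at h5) hnot
      · exact absurd (by
          have h5 : b * a⁻¹ ∈ Aof x := mul_mem hb.2 (inv_mem ha.2)
          rwa [show b * a⁻¹ = x by rw [← h', mul_inv_cancel_right]] at h5) hnot
      · simp [mul_left_cancel h']
    · rintro ⟨s, hs⟩
      rcases hdec s (sylow_comm hn P hs hx) with h | h
      · exact ⟨(false, ⟨s, hs, h⟩), rfl⟩
      · refine ⟨(true, ⟨x * s, mul_mem hx hs, h⟩), Subtype.ext ?_⟩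
        show x * (x * s) = s
        rw [← mul_assoc, hxx, one_mul]
  have h4 := Nat.card_congr (Equiv.ofBijective f hf)
  rw [Nat.card_prod, card_sylow_two hn P, Nat.card_eq_fintype_card, Fintype.card_bool] at h4
  have e : Nat.card {s : G // s ∈ P ∧ s ≠ 1 ∧ s ∈ Aof x} = Nat.card {a : L // a ≠ 1} :=
    Nat.card_congr ⟨fun s => ⟨⟨s.1, s.2.1, s.2.2.2⟩, fun h => s.2.2.1 (congrArg Subtype.val h)⟩,
      fun a => ⟨a.1.1, a.1.2.1, fun h => a.2 (Subtype.ext h), a.1.2.2⟩, fun _ => rfl, fun _ => rfl⟩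
  have := Fintype.ofFinite L
  rw [e, Nat.card_eq_fintype_card, Fintype.card_subtype_compl, Fintype.card_subtype_eq,
    ← Nat.card_eq_fintype_card]
  omega

/-- No two involutions lie in each other's derived centralizer. -/
theorem not_mutual (hn : Nat.card G = 175560) {t a : G} (ht : orderOf t = 2) (ha : orderOf a = 2)
    (h : a ∈ Aof t) : t ∉ Aof a := by
  intro h'
  have : Fact (Nat.Prime 2) := ⟨Nat.prime_two⟩
  obtain ⟨P⟩ : Nonempty (Sylow 2 G) := inferInstance
  let X := {s : G // s ∈ P ∧ s ≠ 1}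
  have := Fintype.ofFinite X
  have hord : ∀ s : X, orderOf s.1 = 2 := fun s => orderOf_eq_prime (sylow_sq hn P s.2.1) s.2.2
  let Γ : SimpleGraph X :=
    { Adj := fun x y => y.1 ∈ Aof x.1
      symm := ⟨fun x y hxy => by
        obtain ⟨g, hg1, hg2⟩ := in_pairs_conj hn ht (hord x) ha (hord y) h hxy
        have := conj_mem_Aof (g := g) h'
        rwa [hg1, hg2] at this⟩
      loopless := ⟨fun x hx => not_mem_Aof hn (hord x) hx⟩ }
  have := Γ.sum_degrees_eq_twice_card_edges
  have hdeg : ∀ x : X, Γ.degree x = 3 := by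
    intro x
    rw [← degree_three hn P x.2.1 x.2.2, ← SimpleGraph.card_neighborSet_eq_degree,
      ← Nat.card_eq_fintype_card]
    exact Nat.card_congr ⟨fun y => ⟨y.1.1, y.1.2.1, y.1.2.2, y.2⟩,
      fun s => ⟨⟨s.1, s.2.1, s.2.2.1⟩, s.2.2.2⟩, fun _ => rfl, fun _ => rfl⟩
  rw [Finset.sum_congr rfl (fun x _ => hdeg x), Finset.sum_const, Finset.card_univ, smul_eq_mul] at this
  have h7 : Fintype.card X = 7 := by
    have := Fintype.ofFinite (P : Subgroup G)
    rw [← Nat.card_eq_fintype_card, Nat.card_congr (⟨fun x => ⟨⟨x.1, x.2.1⟩, fun h => x.2.2 (congrArg Subtype.val h)⟩,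
      fun x => ⟨x.1.1, x.1.2, fun h => x.2 (Subtype.ext h)⟩, fun _ => rfl, fun _ => rfl⟩ :
        X ≃ {x : (P : Subgroup G) // x ≠ 1}), Nat.card_eq_fintype_card, Fintype.card_subtype_compl,
      Fintype.card_subtype_eq, ← Nat.card_eq_fintype_card, card_sylow_two hn P]
  rw [h7] at this
  omega

/-- Of two commuting involutions one lies in the derived centralizer of the other. -/
theorem mem_Aof_of_not_mem (hn : Nat.card G = 175560) {t a : G} (ht : orderOf t = 2)
    (ha : orderOf a = 2) (hne : a ≠ t) (hc : a * t = t * a) (h : a ∉ Aof t) : t ∈ Aof a := by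
  have : Fact (Nat.Prime 2) := ⟨Nat.prime_two⟩
  obtain ⟨b, hb, hbo⟩ := exists_mem_Aof hn ht
  obtain ⟨α, -, -, hdec⟩ := exists_alt hn ht
  obtain ⟨β, -, -, hdec'⟩ := exists_alt hn hbo
  have tt := invol_mul_self ht
  have bb := invol_mul_self hbo
  have hta : t * a ∈ Aof t := (hdec a hc).resolve_left h
  have hbt : b * t ∈ Aof b :=
    (hdec' t (Aof_commute hb).symm).resolve_left (not_mutual hn ht hbo hb)
  have htao : orderOf (t * a) = 2 := by
    refine orderOf_eq_prime ?_ fun e => hne ?_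
    · rw [(show Commute t a from hc.symm).mul_pow, pow_two, pow_two, tt, invol_mul_self ha, one_mul]
    · calc a = t * t * a := by rw [tt, one_mul]
        _ = t := by rw [mul_assoc, e, mul_one]
  have hbto : orderOf (b * t) = 2 := by
    refine orderOf_eq_prime ?_ fun e => not_mem_Aof hn ht ?_
    · rw [(show Commute b t from Aof_commute hb).mul_pow, pow_two, pow_two, tt, bb, one_mul]
    · rw [show t = b by calc t = b * b * t := by rw [bb, one_mul]
                          _ = b := by rw [mul_assoc, e, mul_one]]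
      exact (show b = t by calc b = b * (t * t) := by rw [tt, mul_one]
                            _ = t := by rw [← mul_assoc, e, one_mul]) ▸ hb
  obtain ⟨g, hg1, hg2⟩ := in_pairs_conj hn hbo ht hbto htao hbt hta
  have hga : g * t * g⁻¹ = a := by
    calc g * t * g⁻¹ = (g * b * g⁻¹)⁻¹ * (g * (b * t) * g⁻¹) := by group
      _ = a := by rw [hg1, hg2, inv_mul_cancel_left]
  have := conj_mem_Aof (g := g) hb
  rwa [hga, hg1] at this

end CfsgLib.KnownA.OneSevenFive
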