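import Cfsg.Agent.Lib.KnownA.OneSevenFive.Gens

/-!
The presentation satisfied by every simple group of order 175560.
-/

set_option autoImplicit false
set_option maxRecDepth 100000

namespace CfsgLib.KnownA.OneSevenFive

open CfsgLib.InvChar.Coset
open scoped _root_.Classical

attribute [local irreducible] pU pV pW

universe u

variable {G : Type u} [Group G] [Finite G] [IsSimpleGroup G]

/-- A pair with commuting involutions times has order two. -/
theorem orderOf_mul_invol {G : Type u} [Group G] {a b : G} (ha : a * a = 1) (hb : b * b = 1)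
    (hc : Commute a b) (hne : a ≠ b) : orderOf (a * b) = 2 := by
  refine orderOf_eq_prime ?_ fun e => hne ?_
  · rw [hc.mul_pow, pow_two, pow_two, ha, hb, one_mul]
  · rw [eq_inv_of_mul_eq_one_left e, inv_eq_of_mul_eq_one_right hb]

/-- The second case does not occur. -/
theorem caseII_false (hn : Nat.card G = 175560) {α : A5 →* G} {t y : G} (h : Std α t y)
    (hc : t * α pU * y = y * (t * α pU)) : False := by
  obtain ⟨r1, r1', r2, -, -, r4, -⟩ := relations pV (by simp)
  have uu : α pU * α pU = 1 := by rw [← map_mul, r1, map_one]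
  have hut : α pU ≠ t := fun e => not_mem_Aof hn h.ord (e ▸ h.mem pU)
  set s := t * α pU with hs
  have hso : orderOf s = 2 := orderOf_mul_invol h.tt uu (h.tcomm pU).symm (Ne.symm hut)
  have hst : s * t = t * s := by rw [hs, mul_assoc, (h.tcomm pU).eq]
  have hsA : s ∉ Aof t := fun hh => not_mem_Aof hn h.ord (by
    have := mul_mem hh (h.mem pU)
    rwa [hs, mul_assoc, uu, mul_one] at this)
  have hne : s ≠ t := fun e => r1' (h.inj (by
    rw [map_one]; exact mul_left_cancel (a := t) (by rw [mul_one, ← hs]; exact e)))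
  have htA : t ∈ Aof s := mem_Aof_of_not_mem hn h.ord hso hne hst hsA
  have huA : α pU ∉ Aof s := fun hh => not_mem_Aof hn hso (by
    have := mul_mem htA hh
    rwa [← hs] at this)
  obtain ⟨β, hβ, hU, -, hV⟩ := h.choose_v hn hso
    (by rw [hs, mul_assoc, uu, mul_one, ← mul_assoc, (h.tcomm pU).eq, mul_assoc, uu, mul_one])
    ((h.tcomm pV).symm.mul_left (show Commute (α pU) (α pV) by
      show _ = _
      rw [← map_mul, ← map_mul, r4]) |>.eq) huA
  rw [hs, ← hU] at hc hso htA hV
  clear! α
  rename' hβ => hy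
  set u := β pU with hu
  set v := β pV with hv
  set s := t * u with hs
  have uu : u * u = 1 := by rw [hu, ← map_mul, r1, map_one]
  have vv : v * v = 1 := by rw [hv, ← map_mul, r2, map_one]
  have huv : Commute u v := by
    show u * v = v * u
    rw [hu, hv, ← map_mul, ← map_mul, r4]
  have hut : Commute u t := hy.tcomm pU
  have hvt : Commute v t := hy.tcomm pV
  have hsy : Commute s y := hc
  have hst : Commute s t := (Commute.refl t).mul_left hut
  have hsv : Commute s v := hvt.symm.mul_left huv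
  have v1 : v ≠ 1 := fun e => (relations pV (by simp)).2.2.2.1 (hy.inj (e.trans (map_one β).symm))
  have htv : t ≠ v := fun e => not_mem_Aof hn hy.ord (by
    have m : v ∈ Aof t := hy.mem pV
    rwa [← e] at m)
  have hpat : ∀ z : G, Std β t z → Commute s z → z ∈ Aof s := fun z hz hsz =>
    mem_Aof_of_pow_five hn hso htA hsz.eq.symm hz.ty5
  -- choose the pattern
  obtain ⟨y, hy, hsy, h3, h5⟩ : ∃ y : G, Std β t y ∧ Commute s y ∧ (v * y) ^ 3 = 1 ∧
      (t * v * y) ^ 5 = 1 := by
    rcases pattern hn hso htA hV (hpat y hy hsy) hy.tt (invol_ne_one hy.ord) vv v1 hy.y2 hy.y_ne_one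
      hvt.eq.symm htv hy.ty5 (fun e => hy.ty1 (by rw [← e, hy.tt])) with ⟨a, b⟩ | ⟨a, b⟩
    · exact ⟨y, hy, hsy, a, b⟩
    · exact ⟨y * t * y, hy.next, (hsy.mul_right hst).mul_right hsy, a, b⟩
  have hyA := hpat y hy hsy
  obtain ⟨c1, c2⟩ := cycle hn hso htA hV hyA hy.tt (invol_ne_one hy.ord) vv v1 hy.y2 hy.y_ne_one
    hvt.eq.symm htv hy.ty5 h3 h5
  set d := β (pWord dWord) with hd
  have hdu : d⁻¹ * u * d = u * v := by
    rw [hd, hu, hv, ← map_inv, ← map_mul, ← map_mul, d_table.1, map_mul]
  have hdv : d⁻¹ * v * d = u := by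
    rw [hd, hu, hv, ← map_inv, ← map_mul, ← map_mul, d_table.2]
  have hdt : Commute d t := hy.tcomm _
  set e₀ := y * t * y * t * v * y with he₀
  set e := d⁻¹ * e₀ * d with he
  have hconj : ∀ a b : G, a * e₀ = e₀ * b → (d⁻¹ * a * d) * e = e * (d⁻¹ * b * d) := by
    intro a b hab
    calc d⁻¹ * a * d * (d⁻¹ * e₀ * d) = d⁻¹ * (a * e₀) * d := by group
      _ = d⁻¹ * (e₀ * b) * d := by rw [hab]
      _ = d⁻¹ * e₀ * d * (d⁻¹ * b * d) := by group
  have dt : d⁻¹ * t * d = t := by rw [mul_assoc, ← hdt.eq, inv_mul_cancel_left]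
  have et : t * e = e * u := by
    have := hconj _ _ c1
    rwa [dt, hdv] at this
  have eu : u * e = e * (t * u) := by
    have := hconj _ _ c2
    rwa [hdv, show d⁻¹ * (t * v) * d = (d⁻¹ * t * d) * (d⁻¹ * v * d) by group, dt, hdv] at this
  set a := t * (u * v) with ha
  have hea : a * e = e * a := by
    have h0 : s * e₀ = e₀ * s :=
      ((((hsy.mul_right hst).mul_right hsy).mul_right hst).mul_right hsv |>.mul_right hsy).eq
    have := hconj _ _ h0
    rwa [hs, show d⁻¹ * (t * u) * d = (d⁻¹ * t * d) * (d⁻¹ * u * d) by group, dt, hdu] at this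
  have es : s * e = e * t := by
    calc t * u * e = t * e * (t * u) := by rw [mul_assoc, eu, ← mul_assoc]
      _ = e * u * (t * u) := by rw [et]
      _ = e * (u * t * u) := by group
      _ = e * t := by rw [show u * t * u = t by rw [hut.eq, mul_assoc, uu, mul_one]]
  have hva : v = a * s := by
    calc v = (t * t) * (u * u) * v := by rw [hy.tt, uu, one_mul, one_mul]
      _ = t * (t * (u * v) * u) := by rw [mul_assoc t (u * v) u, mul_assoc u v u, ← huv.eq]; group
      _ = t * (u * v) * s := by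
        rw [hs, ← mul_assoc t (t * (u * v)) u, ← mul_assoc t t (u * v), hy.tt, one_mul,
          ← mul_assoc (t * (u * v)) t u, mul_assoc t (u * v) t, (hut.mul_left hvt).eq, ← mul_assoc t t,
          hy.tt, one_mul]
  have ev : v * e = e * (u * v) := by
    rw [hva, mul_assoc, es, ← mul_assoc, hea, mul_assoc]
    congr 1
    rw [ha, mul_assoc, (hut.mul_left hvt).eq, ← mul_assoc, hy.tt, one_mul]
    rw [← hva]
  have etv : (t * v) * e = e * v := by
    rw [mul_assoc, ev, ← mul_assoc, et, mul_assoc, ← mul_assoc u u, uu, one_mul]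
  set z := e⁻¹ * y * e with hz
  have hzA : z ∈ Aof t := by
    have h := conj_mem_Aof (g := e⁻¹) hyA
    rwa [inv_inv, conj_eq es, ← hz] at h
  have z2 : z * z = 1 := by
    rw [hz, show e⁻¹ * y * e * (e⁻¹ * y * e) = e⁻¹ * (y * y) * e by group, hy.y2]; group
  have z1 : z ≠ 1 := fun h => hy.y_ne_one (by
    calc y = e * (e⁻¹ * y * e) * e⁻¹ := by group
      _ = 1 := by rw [← hz, h]; group)
  obtain ⟨p, hp, hpz⟩ := exists_listed hy.inj hy.range hzA z2 z1
  have hpow : ∀ (x b : G) (q : A5) (m : ℕ), x * e = e * b → β q = b → (x * y) ^ m = 1 → (q * p) ^ m = 1 := by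
    intro x b q m hx hq hm
    apply hy.inj
    rw [map_pow, map_mul, map_one, hpz, hq, hz, ← conj_eq hx,
      show e⁻¹ * x * e * (e⁻¹ * y * e) = e⁻¹ * (x * y) * e⁻¹⁻¹ by group, conj_pow, hm, mul_one,
      inv_inv, inv_mul_cancel]
  have e1 := hpow t u pU 5 et rfl hy.ty5
  have e2 := hpow (t * v) v pV 5 etv rfl h5
  have e3 := hpow v (u * v) (pU * pV) 3 ev (map_mul β pU pV) h3
  obtain ⟨l, hl, hpl⟩ := z_table p hp e1 e2 e3
  subst hpl
  set σ := sOf β t y with hσ
  have hsq := hy.sOf_sq
  have hd' : wprod σ dWord = d := hy.wprod_sOf dWord (by decide)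
  have hR : wprod σ (dWord.reverse ++ [4] ++ dWord) = d⁻¹ * y * d := by
    rw [wprod_append, wprod_append, wprod_reverse σ hsq, hd']
    simp [wprod, hσ, sOf]
  have heW : wprod σ eWord = e := by
    rw [show eWord = (dWord.reverse ++ [4] ++ dWord) ++ [0] ++ (dWord.reverse ++ [4] ++ dWord) ++ [0, 1] ++
      (dWord.reverse ++ [4] ++ dWord) from rfl, wprod_append, wprod_append, wprod_append, wprod_append, hR]
    have h0 : wprod σ [0] = d⁻¹ * t * d := by rw [dt]; simp [wprod, hσ, sOf]
    have h01 : wprod σ [0, 1] = (d⁻¹ * t * d) * (d⁻¹ * v * d) := by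
      rw [dt, hdv]; simp [wprod, hσ, sOf, pLetters, hu]
    rw [h0, h01, he, he₀]
    group
  have hl3 : ∀ x ∈ l, 1 ≤ x ∧ x ≤ 3 := by
    simp only [zWords, List.mem_cons, List.not_mem_nil, or_false] at hl
    rcases hl with rfl | rfl | rfl | rfl <;> decide
  have hrels : ∀ r ∈ relsII l, wprod σ r = 1 := by
    intro r hr
    simp only [relsII, List.mem_append, List.mem_cons, List.not_mem_nil, or_false] at hr
    rcases hr with hr | rfl | rfl | rfl
    · exact hy.base_rels h5 rfl r hr
    · calc wprod σ [0, 1, 4, 0, 1, 4] = s * y * (s * y) := by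
            simp [wprod, hσ, sOf, pLetters, hs, hu, mul_assoc]
        _ = 1 := by rw [mul_assoc s, ← mul_assoc y, ← hsy.eq, mul_assoc s y, hy.y2, mul_one,
              invol_mul_self hso]
    · rw [← h3]
      simp [wprod, hσ, sOf, pLetters, hv, pow_succ, mul_assoc]
    · rw [wprod_append, wprod_append, wprod_append, wprod_reverse σ hsq, wprod_reverse σ hsq, heW,
        hy.wprod_sOf l hl3, hpz]
      simp [wprod, hσ, sOf, hz, mul_assoc]
  have hsub : ∀ r ∈ [[0], [1], [2], [3]], wprod σ r ∈ Subgroup.centralizer ({t} : Set G) := by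
    intro r hr
    rw [Subgroup.mem_centralizer_singleton_iff]
    simp only [List.mem_cons, List.not_mem_nil, or_false] at hr
    rcases hr with rfl | rfl | rfl | rfl <;> simp [wprod, hσ, sOf, pLetters] <;>
      exact (hy.tcomm _).eq
  have hy4 : σ 4 ∈ Subgroup.centralizer ({t} : Set G) := by
    simp only [zWords, List.mem_cons, List.not_mem_nil, or_false] at hl
    rcases hl with rfl | rfl | rfl | rfl
    · exact mem_of_one_point OneSevenFive.II0.covered rfl (by decide) σ _ hsq
        (rels_of_rot hsq rot_II0 hrels) hsub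
    · exact mem_of_one_point OneSevenFive.II1.covered rfl (by decide) σ _ hsq
        (rels_of_rot hsq rot_II1 hrels) hsub
    · exact mem_of_one_point OneSevenFive.II2.covered rfl (by decide) σ _ hsq
        (rels_of_rot hsq rot_II2 hrels) hsub
    · exact mem_of_one_point OneSevenFive.II3.covered rfl (by decide) σ _ hsq
        (rels_of_rot hsq rot_II3 hrels) hsub
  rw [Subgroup.mem_centralizer_singleton_iff] at hy4
  have hyt : y * t = t * y := by simpa [hσ, sOf] using hy4
  refine hy.ty1 ?_
  have h2 : (t * y) ^ 2 = 1 := by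
    rw [pow_two, mul_assoc, ← mul_assoc y, hyt, mul_assoc t y y, hy.y2, mul_one, hy.tt]
  calc t * y = (t * y) ^ 5 * (((t * y) ^ 2) ^ 2)⁻¹ := by
        rw [← pow_mul, show 5 = 1 + 2 * 2 by norm_num, pow_add, pow_one, mul_inv_cancel_right]
    _ = 1 := by rw [hy.ty5, h2, one_pow, inv_one, one_mul]

/-- Every element of the alternating group is a product of two listed involutions. -/
theorem invList_mul : ∀ a : A5, ∃ p ∈ invList, ∃ q ∈ invList, a = p * q := by decide +kernel

/-- The relations of the presentation hold for suitable elements. -/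
theorem exists_rels (hn : Nat.card G = 175560) : ∃ (α : A5 →* G) (t y : G), Std α t y ∧
    α pU * y = y * α pU ∧ ∀ r ∈ relsI, wprod (sOf α t y) r = 1 := by
  obtain ⟨α, t, y, h⟩ := exists_std (G := G) hn
  have hc := (h.dichotomy hn).resolve_right (caseII_false hn h)
  obtain ⟨r1, r1', r2, -, -, r4, -⟩ := relations pV (by simp)
  have huo : orderOf (α pU) = 2 := by
    rw [orderOf_injective α h.inj]
    exact orderOf_eq_prime (by rw [pow_two]; exact r1) r1'
  have hut : α pU ≠ t := fun e => not_mem_Aof hn h.ord (e ▸ h.mem pU)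
  obtain ⟨β, hβ, hU, -, hV⟩ := h.choose_v hn huo rfl (by rw [← map_mul, ← map_mul, r4])
    (not_mem_Aof hn huo)
  rw [← hU] at hc huo hut hV
  clear! α
  refine ⟨β, t, ?_⟩
  set u := β pU with hu
  set v := β pV with hv
  have uu := invol_mul_self huo
  have vv : v * v = 1 := by rw [hv, ← map_mul, r2, map_one]
  have v1 : v ≠ 1 := fun e => (relations pV (by simp)).2.2.2.1 (hβ.inj (e.trans (map_one β).symm))
  have huv : Commute u v := by
    show u * v = v * u
    rw [hu, hv, ← map_mul, ← map_mul, r4]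
  have hut' : Commute u t := hβ.tcomm pU
  have hvt : Commute v t := hβ.tcomm pV
  have hT : t * u ∈ Aof u := by
    obtain ⟨γ, -, -, hdec⟩ := exists_alt hn huo
    have := (hdec t hut'.eq.symm).resolve_left (not_mutual hn hβ.ord huo (hβ.mem pU))
    rwa [hut'.eq] at this
  have hTo : orderOf (t * u) = 2 := orderOf_mul_invol hβ.tt uu hut'.symm (Ne.symm hut)
  have hTy : ∀ z : G, t * u * (u * z) = t * z := fun z => by
    rw [mul_assoc, ← mul_assoc u, uu, one_mul]
  have hpat : ∀ z : G, Std β t z → Commute u z → u * z ∈ Aof u := fun z hz huz =>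
    mem_Aof_of_pow_five hn huo hT (((Commute.refl u).mul_left huz.symm).eq) (by rw [hTy]; exact hz.ty5)
  have htv : t * u ≠ v := fun e => not_mem_Aof hn hβ.ord (by
    have : t = v * u := by rw [← e, mul_assoc, uu, mul_one]
    have m : v * u ∈ Aof t := mul_mem (hβ.mem pV) (hβ.mem pU)
    rwa [← this] at m)
  have huz : ∀ z : G, Std β t z → Commute u z → u * z ≠ 1 ∧ u * z * (u * z) = 1 := fun z hz huz => by
    refine ⟨fun e => ?_, ?_⟩
    · have hzu : z = u := (mul_left_cancel (a := u) (e.trans uu.symm))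
      refine hz.ty1 ?_
      have h5 := hz.ty5
      rw [hzu] at h5 ⊢
      rw [hut'.symm.mul_pow] at h5
      rw [show t ^ 5 = t by simp [pow_succ, mul_assoc, hβ.tt], show u ^ 5 = u by simp [pow_succ, mul_assoc, uu]] at h5
      exact h5
    · rw [mul_assoc u z, ← mul_assoc z, ← huz.eq, mul_assoc u z z, hz.y2, mul_one, uu]
  have hkey : ∀ z : G, Std β t z → Commute u z → (v * (u * z)) ^ 3 = 1 →
      (t * u * v * (u * z)) ^ 5 = 1 → ∀ r ∈ relsI, wprod (sOf β t z) r = 1 := by
    intro z hz huz' h3 h5 r hr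
    have h5' : (t * v * z) ^ 5 = 1 := by
      rwa [mul_assoc t u v, huv.eq, mul_assoc t (v * u), mul_assoc v u, ← mul_assoc u u, uu, one_mul,
        ← mul_assoc] at h5
    simp only [relsI, List.mem_append, List.mem_cons, List.not_mem_nil, or_false] at hr
    rcases hr with hr | rfl | rfl
    · exact hz.base_rels h5' rfl r hr
    · rw [← (huz z hz huz').2]
      simp [wprod, sOf, pLetters, hu, mul_assoc]
    · rw [← h3]
      simp [wprod, sOf, pLetters, hu, hv, pow_succ, mul_assoc]
  have hcy : Commute u y := hc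
  rcases pattern hn huo hT hV (hpat y hβ hcy) (invol_mul_self hTo) (invol_ne_one hTo) vv v1
    (huz y hβ hcy).2 (huz y hβ hcy).1 (hvt.symm.mul_left huv).eq htv (by rw [hTy]; exact hβ.ty5)
    (fun e => hβ.ty1 (by
      have : t = y := mul_left_cancel (a := u) (hut'.eq.trans e)
      rw [← this, hβ.tt])) with ⟨a, b⟩ | ⟨a, b⟩
  · exact ⟨y, hβ, hc, hkey y hβ hcy a b⟩
  · have e : u * y * (t * u) * (u * y) = u * (y * t * y) := by
      rw [mul_assoc (u * y), hTy, mul_assoc u, ← mul_assoc y]
    have hcy' : Commute u (y * t * y) := (hcy.mul_right hut').mul_right hcy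
    rw [e] at a b
    exact ⟨y * t * y, hβ.next, hcy'.eq, hkey _ hβ.next hcy' a b⟩

/-- A subgroup containing the normalizer of a subgroup of prime order. -/
theorem card_mod_of_normalizer_le {G : Type u} [Group G] [Finite G] {p : ℕ} [Fact p.Prime]
    (hG : ¬ p ^ 2 ∣ Nat.card G) {x : G} (hx : orderOf x = p) {K : Subgroup G} (hxK : x ∈ K)
    {N : ℕ} (hN : Nat.card (Subgroup.normalizer ((Subgroup.zpowers x : Subgroup G) : Set G)) = N)
    (hle : Subgroup.normalizer ((Subgroup.zpowers x : Subgroup G) : Set G) ≤ K) :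
    ∃ m, Nat.card K = N * m ∧ m % p = 1 := by
  obtain ⟨P, hP⟩ := (IsPGroup.of_card (n := 1) (by rw [Nat.card_zpowers, Subgroup.orderOf_mk, hx, pow_one]) :
    IsPGroup p (Subgroup.zpowers (⟨x, hxK⟩ : K))).exists_le_sylow
  have hPc : Nat.card P = p := CfsgLib.Transfer.card_sylow_eq_prime P
    (hx ▸ Subgroup.orderOf_dvd_natCard K hxK) fun h => hG (h.trans (Subgroup.card_subgroup_dvd_card K))
  have hPe : (P : Subgroup K) = Subgroup.zpowers (⟨x, hxK⟩ : K) :=
    sylow_eq_zpowers P hPc (hP (Subgroup.mem_zpowers _)) (by rw [Subgroup.orderOf_mk, hx])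
  refine ⟨Nat.card (Sylow p K), ?_, by
    have h : _ % p = 1 % p := card_sylow_modEq_one p K
    rw [h, Nat.mod_eq_of_lt (Fact.out : p.Prime).one_lt]⟩
  rw [show Nat.card (Sylow p K) = (Subgroup.normalizer ((P : Subgroup K) : Set K)).index from
    Sylow.card_eq_index_normalizer P, hPe, ← hN]
  have e : Subgroup.normalizer ((Subgroup.zpowers (⟨x, hxK⟩ : K) : Subgroup K) : Set K) =
      (Subgroup.normalizer ((Subgroup.zpowers x : Subgroup G) : Set G)).subgroupOf K := by
    rw [Subgroup.subgroupOf_normalizer_eq ((Subgroup.zpowers_le).2 hxK)]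
    congr 2
    have hmap : (Subgroup.zpowers (⟨x, hxK⟩ : K)).map K.subtype = Subgroup.zpowers x :=
      MonoidHom.map_zpowers _ _
    rw [Subgroup.subgroupOf, ← hmap, Subgroup.comap_map_eq_self_of_injective K.subtype_injective]
  rw [e, ← Nat.card_congr (Subgroup.subgroupOfEquivOfLe hle).toEquiv]
  exact (Subgroup.card_mul_index _).symm

/-- The five elements generate. -/
theorem closure_eq_top (hn : Nat.card G = 175560) {α : A5 →* G} {t y : G} (h : Std α t y)
    (hc : α pU * y = y * α pU) : Subgroup.closure (sOf α t y '' Set.Iio 5) = ⊤ := by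
  have : Fact (Nat.Prime 3) := ⟨Nat.prime_three⟩
  have : Fact (Nat.Prime 5) := ⟨by norm_num⟩
  set K := Subgroup.closure (sOf α t y '' Set.Iio 5) with hK
  have hmem : ∀ x < 5, sOf α t y x ∈ K := fun x hx => Subgroup.subset_closure ⟨x, hx, rfl⟩
  have htK : t ∈ K := hmem 0 (by norm_num)
  have hyK : y ∈ K := hmem 4 (by norm_num)
  have hword : ∀ L : List ℕ, (∀ x ∈ L, 1 ≤ x ∧ x ≤ 3) → α (pWord L) ∈ K := fun L hL => by
    rw [← h.wprod_sOf L hL, wprod]
    refine Subgroup.list_prod_mem K fun z hz => ?_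
    obtain ⟨x, hx, rfl⟩ := List.mem_map.1 hz
    exact hmem x (by have := hL x hx; omega)
  have hsingle : ∀ i, 1 ≤ i → i ≤ 3 → α (pLetters i) ∈ K := fun i h1 h2 => by
    have := hword [i] (by simp [h1, h2])
    simpa [pWord] using this
  have hαK : ∀ a : A5, α a ∈ K := fun a => by
    have hl : ∀ p ∈ invList, α p ∈ K := by
      intro p hp
      simp only [invList, List.mem_cons, List.not_mem_nil, or_false] at hp
      rcases hp with rfl | rfl | rfl | rfl | rfl | rfl | rfl | rfl | rfl | rfl | rfl | rfl | rfl | rfl | rfl | rfl <;>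
        first
          | exact hword _ (by decide)
          | exact hsingle 1 le_rfl (by norm_num)
          | exact hsingle 2 (by norm_num) (by norm_num)
          | exact hsingle 3 (by norm_num) le_rfl
    obtain ⟨p, hp, q, hq, rfl⟩ := invList_mul a
    rw [map_mul]; exact mul_mem (hl p hp) (hl q hq)
  have hfK : t * y ∈ K := mul_mem htK hyK
  set c := α (pU * pW) with hcdef
  set u := α pU with hu
  have hc3 : orderOf c = 3 := by
    rw [hcdef, orderOf_injective α h.inj]
    exact orderOf_eq_prime (relations pV (by simp)).2.2.2.2.2.2.2.1 (relations pV (by simp)).2.2.2.2.2.2.2.2.1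
  have hf5 : orderOf (t * y) = 5 := orderOf_eq_prime h.ty5 h.ty1
  have hfc : Commute (t * y) c := (h.tcomm _).symm.mul_left (show Commute y c from h.yc)
  -- the centralizer of c
  have hCK : Subgroup.centralizer ({c} : Set G) ≤ K := by
    have hle : (K ⊓ Subgroup.centralizer ({c} : Set G)) ≤ Subgroup.centralizer ({c} : Set G) := inf_le_right
    have m : ∀ z : G, z ∈ K → z * c = c * z → orderOf z ∣ Nat.card ↥(K ⊓ Subgroup.centralizer ({c} : Set G)) :=
      fun z h1 h2 => Subgroup.orderOf_dvd_natCard _ ⟨h1, Subgroup.mem_centralizer_singleton_iff.2 h2⟩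
    have d3 := m c (hαK _) rfl
    have d2 := m t htK (h.tcomm _).eq.symm
    have d5 := m _ hfK hfc.eq
    rw [hc3] at d3; rw [h.ord] at d2; rw [hf5] at d5
    have h30 : 30 ∣ Nat.card ↥(K ⊓ Subgroup.centralizer ({c} : Set G)) :=
      Nat.Coprime.mul_dvd_of_dvd_of_dvd (m := 6) (n := 5) (by norm_num)
        (Nat.Coprime.mul_dvd_of_dvd_of_dvd (m := 2) (n := 3) (by norm_num) d2 d3) d5
    have := Subgroup.eq_of_le_of_card_ge hle (by
      rw [card_centralizer_three hn hc3]; exact Nat.le_of_dvd Nat.card_pos h30)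
    exact this ▸ inf_le_left
  set M := Subgroup.normalizer ((Subgroup.zpowers c : Subgroup G) : Set G) with hM
  have hM60 : ∀ {p : ℕ}, p = 3 ∨ p = 5 → ∀ x : G, orderOf x = p →
      Nat.card (Subgroup.normalizer ((Subgroup.zpowers x : Subgroup G) : Set G)) = 60 := by
    intro p hp x hx
    have hpl : p ∈ primeList := by rcases hp with rfl | rfl <;> simp [primeList]
    have := Fact.mk (sieve_all hpl).1
    obtain ⟨P, hP⟩ := (IsPGroup.of_card (n := 1) (by rw [Nat.card_zpowers, hx, pow_one]) :
      IsPGroup p (Subgroup.zpowers x)).exists_le_sylow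
    have hPe := sylow_eq_zpowers P (card_sylow hn hpl P) (hP (Subgroup.mem_zpowers x)) hx
    have hn' : Nat.card (Sylow p G) = 2926 := by
      rcases hp with rfl | rfl
      · exact (exists_sel hn).2.2.2.2.1
      · exact (exists_sel hn).2.2.2.1.elim (fun h => h.1) (fun h => h.1)
    have h := (Subgroup.normalizer ((P : Subgroup G) : Set G)).card_mul_index
    rw [show (Subgroup.normalizer ((P : Subgroup G) : Set G)).index = Nat.card (Sylow p G) from
      (Sylow.card_eq_index_normalizer P).symm, hn', hn, hPe] at h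
    omega
  have huc : u * c * u⁻¹ = c⁻¹ := by
    refine eq_inv_of_mul_eq_one_left ?_
    obtain ⟨r1, -, -, -, r3, -⟩ := relations pV (by simp)
    rw [hu, hcdef, ← map_inv, ← map_mul, ← map_mul, ← map_mul, inv_eq_of_mul_eq_one_right r1,
      show pU * (pU * pW) * pU * (pU * pW) = (pU * pU) * pW * (pU * pU) * pW by group, r1, one_mul,
      mul_one, r3, map_one]
  have huM : u ∈ M := by
    refine Subgroup.mem_normalizer_fintype fun z hz => ?_
    obtain ⟨i, rfl⟩ := hz
    exact ⟨-i, by show c ^ (-i) = u * c ^ i * u⁻¹; rw [← conj_zpow, huc, inv_zpow, zpow_neg]⟩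
  have hMK : M ≤ K := by
    have hle : K ⊓ M ≤ M := inf_le_right
    have hCM : Subgroup.centralizer ({c} : Set G) ≤ K ⊓ M := le_inf hCK (by
      rw [hM, ← centralizer_zpowers_eq]; exact Subgroup.centralizer_le_normalizer _)
    have hd := Subgroup.card_dvd_of_le hle
    rw [hM, hM60 (Or.inl rfl) c hc3, ← hM] at hd
    have hd' := Subgroup.card_dvd_of_le hCM
    rw [card_centralizer_three hn hc3] at hd'
    have hne : Nat.card ↥(K ⊓ M) ≠ 30 := fun h30 => by
      have e := Subgroup.eq_of_le_of_card_ge hCM (by rw [h30, card_centralizer_three hn hc3])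
      have hu' : u ∈ K ⊓ M := ⟨hαK _, huM⟩
      rw [← e, Subgroup.mem_centralizer_singleton_iff] at hu'
      have h2 : c = c⁻¹ := by rw [← huc, hu', mul_inv_cancel_right]
      have h3 : c ^ 2 = 1 := by rw [pow_two]; nth_rw 1 [h2]; exact inv_mul_cancel c
      have := orderOf_dvd_of_pow_eq_one h3
      rw [hc3] at this; norm_num at this
    have h60 : Nat.card ↥(K ⊓ M) = 60 := by
      have := Nat.le_of_dvd (by norm_num) hd
      obtain ⟨k, hk⟩ := hd'
      have : 0 < Nat.card ↥(K ⊓ M) := Nat.card_pos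
      omega
    have := Subgroup.eq_of_le_of_card_ge hle (by rw [h60, hM, hM60 (Or.inl rfl) c hc3])
    exact this ▸ inf_le_left
  set M₅ := Subgroup.normalizer ((Subgroup.zpowers (t * y) : Subgroup G) : Set G) with hM5
  have hM5K : M₅ ≤ K := by
    have hle : M ≤ M₅ := by
      intro g hg
      refine Subgroup.mem_normalizer_fintype fun z hz => ?_
      obtain ⟨i, rfl⟩ := hz
      have hgc : g⁻¹ * c * g ∈ Subgroup.zpowers c := by
        have := ((Subgroup.mem_normalizer_iff).1 (inv_mem hg) c).1 (Subgroup.mem_zpowers c)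
        rwa [inv_inv] at this
      obtain ⟨j, hj⟩ := hgc
      have hj' : c ^ j = g⁻¹ * c * g := hj
      have hcomm : g * (t * y) * g⁻¹ * c = c * (g * (t * y) * g⁻¹) := by
        calc g * (t * y) * g⁻¹ * c = g * ((t * y) * (g⁻¹ * c * g)) * g⁻¹ := by group
          _ = g * ((g⁻¹ * c * g) * (t * y)) * g⁻¹ := by rw [← hj', (hfc.zpow_right j).eq]
          _ = c * (g * (t * y) * g⁻¹) := by group
      obtain ⟨k, hk⟩ := five_mem_zpowers hn hc3 hf5
        ((MulEquiv.orderOf_eq (MulAut.conj g) (t * y)).trans hf5) hfc.eq hcomm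
      exact ⟨k * i, by
        show (t * y) ^ (k * i) = g * (t * y) ^ i * g⁻¹
        rw [zpow_mul, show (t * y) ^ k = g * (t * y) * g⁻¹ from hk, conj_zpow]⟩
    have := Subgroup.eq_of_le_of_card_ge hle (by
      rw [hM5, hM60 (Or.inr rfl) _ hf5, hM, hM60 (Or.inl rfl) c hc3])
    exact this ▸ hMK
  obtain ⟨m, hm, hm3⟩ := card_mod_of_normalizer_le (p := 3) (by rw [hn]; norm_num) hc3 (hαK _)
    (hM60 (Or.inl rfl) c hc3) hMK
  obtain ⟨m', hm', hm5⟩ := card_mod_of_normalizer_le (p := 5) (by rw [hn]; norm_num) hf5 hfK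
    (hM60 (Or.inr rfl) _ hf5) hM5K
  obtain rfl : m = m' := Nat.eq_of_mul_eq_mul_left (by norm_num : 0 < 60) (hm.symm.trans hm')
  have h120 : 120 ∣ Nat.card K := by
    rw [← (numbers hn).1 t h.ord]
    refine Subgroup.card_dvd_of_le fun x hx => ?_
    obtain ⟨γ, -, -, hdec⟩ := exists_alt hn h.ord
    rcases hdec x (Subgroup.mem_centralizer_singleton_iff.1 hx) with hA | hA <;>
      rw [← h.range] at hA <;> obtain ⟨a, ha⟩ := hA
    · exact ha ▸ hαK a
    · rw [show x = t * (t * x) by rw [← mul_assoc, h.tt, one_mul], ← ha]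
      exact mul_mem htK (hαK a)
  have hdvd : m ∣ 2926 := by
    have h := Subgroup.card_subgroup_dvd_card K
    rw [hn, hm, show 175560 = 60 * 2926 by norm_num] at h
    exact Nat.dvd_of_mul_dvd_mul_left (by norm_num) h
  have key : ∀ m ∈ Nat.divisors 2926, m % 3 = 1 → m % 5 = 1 → 2 ∣ m → m = 2926 := by decide +kernel
  have h2m : 2 ∣ m := by
    rw [hm, show 120 = 60 * 2 by norm_num] at h120
    exact Nat.dvd_of_mul_dvd_mul_left (by norm_num) h120
  refine Subgroup.eq_top_of_card_eq K ?_
  rw [hm, key m (Nat.mem_divisors.2 ⟨hdvd, by norm_num⟩) hm3 hm5 h2m, hn]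

end CfsgLib.KnownA.OneSevenFive
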