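import Cfsg.Agent.Lib.KnownA.OneSevenFive.Count

/-!
The Sylow structure and the number of `2`-elements of a simple group of order 175560.
-/

set_option autoImplicit false

namespace CfsgLib.KnownA.OneSevenFive

open scoped _root_.Classical

universe u

/-- The selection of an option for each of the five primes. -/
abbrev Sel := (ℕ × ℕ × ℕ) × (ℕ × ℕ × ℕ) × (ℕ × ℕ × ℕ) × (ℕ × ℕ × ℕ) × (ℕ × ℕ × ℕ)

/-- The selected options with their primes. -/
def Sel.tagged (s : Sel) : List (ℕ × (ℕ × ℕ × ℕ)) :=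
  [(19, s.1), (11, s.2.1), (7, s.2.2.1), (5, s.2.2.2.1), (3, s.2.2.2.2)]

/-- Linked primes are linked from both sides. -/
def Sel.symmOK (s : Sel) : Bool :=
  s.tagged.all fun a => s.tagged.all fun b =>
    decide (a.1 = b.1) || (decide (a.2.2.2 % b.1 = 0) == decide (b.2.2.2 % a.1 = 0))

/-- No set of pairwise unlinked primes has too many elements. -/
def Sel.countOK (s : Sel) : Bool :=
  s.tagged.sublists.all fun L =>
    (L.any fun a => L.any fun b => decide (a.1 ≠ b.1) && decide (a.2.2.2 % b.1 = 0)) ||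
      decide ((L.map fun a => a.2.1 * ((a.1 - 1) * a.2.2.2)).sum < 175560)

/-- The surviving selections. -/
def Sel.good (s : Sel) : Bool :=
  decide (s.1 = (1540, 6, 1)) && decide (s.2.1 = (1596, 10, 1)) &&
    (decide (s.2.2.1 = (4180, 3, 2)) || decide (s.2.2.1 = (4180, 6, 1))) &&
    (decide (s.2.2.2.1 = (2926, 2, 6)) || decide (s.2.2.2.1 = (2926, 4, 3))) &&
    decide (s.2.2.2.2 = (2926, 2, 10))

theorem sieve_table : ((opts 19).all fun a => (opts 11).all fun b => (opts 7).all fun c =>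
    (opts 5).all fun d => (opts 3).all fun e =>
      let s : Sel := (a, b, c, d, e)
      !(s.symmOK && s.countOK) || s.good) = true := by decide +kernel

theorem opts_coprime : (primeList.all fun p => (opts p).all fun o =>
    decide (o.2.2 % p ≠ 0) && decide (0 < o.1)) = true := by decide +kernel

variable {G : Type u} [Group G] [Finite G]

/-- The data of the sieve for one prime. -/
def HasOpt (G : Type u) [Group G] (p : ℕ) (o : ℕ × ℕ × ℕ) : Prop :=
  Nat.card (Sylow p G) = o.1 ∧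
    ∀ x : G, orderOf x = p → Nat.card (Subgroup.centralizer ({x} : Set G)) = p * o.2.2

theorem exists_orderOf_eq (hn : Nat.card G = 175560) {p : ℕ} (hp : p ∈ primeList) :
    ∃ x : G, orderOf x = p := by
  have := Fact.mk (sieve_all hp).1
  exact exists_prime_orderOf_dvd_card' p (hn.symm ▸ (sieve_all hp).2.1)

theorem card_sylow (hn : Nat.card G = 175560) {p : ℕ} (hp : p ∈ primeList) (P : Sylow p G) :
    Nat.card P = p := by
  have := Fact.mk (sieve_all hp).1
  exact CfsgLib.Transfer.card_sylow_eq_prime P (hn.symm ▸ (sieve_all hp).2.1)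
    (hn.symm ▸ (sieve_all hp).2.2.1)

/-- An element of order divisible by two primes links them. -/
theorem linked {p q : ℕ} (hp : p.Prime) (hq : q.Prime) (hne : p ≠ q) {o : ℕ × ℕ × ℕ}
    (ho : HasOpt G p o) {g : G} (h1 : p ∣ orderOf g) (h2 : q ∣ orderOf g) : q ∣ o.2.2 := by
  obtain ⟨m, hm⟩ := h1
  obtain ⟨l, hl⟩ := h2
  have hm0 : m ≠ 0 := fun h => (orderOf_pos g).ne' (by rw [hm, h, mul_zero])
  have hl0 : l ≠ 0 := fun h => (orderOf_pos g).ne' (by rw [hl, h, mul_zero])
  have hx : orderOf (g ^ m) = p := by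
    rw [orderOf_pow_of_dvd hm0 (hm ▸ dvd_mul_left m p), hm, Nat.mul_div_cancel _ (Nat.pos_of_ne_zero hm0)]
  have hy : orderOf (g ^ l) = q := by
    rw [orderOf_pow_of_dvd hl0 (hl ▸ dvd_mul_left l q), hl, Nat.mul_div_cancel _ (Nat.pos_of_ne_zero hl0)]
  have hmem : g ^ l ∈ Subgroup.centralizer ({g ^ m} : Set G) :=
    Subgroup.mem_centralizer_singleton_iff.2 ((Commute.refl g).pow_pow l m).eq
  have h := Subgroup.orderOf_dvd_natCard _ hmem
  rw [ho.2 _ hx, hy] at h
  exact ((Nat.Prime.dvd_mul hq).1 h).resolve_left fun hqp =>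
    hne ((Nat.prime_dvd_prime_iff_eq hq hp).1 hqp).symm

/-- Linking is symmetric. -/
theorem linked_symm {p q : ℕ} (hp : p.Prime) (hq : q.Prime) (hne : p ≠ q) {o o' : ℕ × ℕ × ℕ}
    (ho : HasOpt G p o) (ho' : HasOpt G q o') (hex : ∃ x : G, orderOf x = p) (h : q ∣ o.2.2) :
    p ∣ o'.2.2 := by
  have := Fact.mk hq
  obtain ⟨x, hx⟩ := hex
  obtain ⟨k, hk⟩ := exists_prime_orderOf_dvd_card' (G := Subgroup.centralizer ({x} : Set G)) q
    (by rw [ho.2 x hx]; exact dvd_mul_of_dvd_right h p)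
  have hc : Commute x (k : G) := (Subgroup.mem_centralizer_singleton_iff.1 k.2).symm
  have ho2 : orderOf (x * (k : G)) = p * q := by
    rw [hc.orderOf_mul_eq_mul_orderOf_of_coprime (by
      rw [hx, Subgroup.orderOf_coe, hk]; exact (Nat.coprime_primes hp hq).2 hne), hx,
      Subgroup.orderOf_coe, hk]
  exact linked hq hp hne.symm ho' (g := x * (k : G)) (ho2 ▸ dvd_mul_left q p) (ho2 ▸ dvd_mul_right p q)

/-- The count of the elements of order divisible by a prime of the list. -/
theorem card_dvd (hn : Nat.card G = 175560) {p : ℕ} (hp : p ∈ primeList) {o : ℕ × ℕ × ℕ}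
    (hmem : o ∈ opts p) (ho : HasOpt G p o) :
    Nat.card {g : G // p ∣ orderOf g} = o.1 * ((p - 1) * o.2.2) := by
  have := Fact.mk (sieve_all hp).1
  obtain ⟨x₀, hx₀⟩ := exists_orderOf_eq hn hp
  have hc := opts_coprime
  simp only [List.all_eq_true, Bool.and_eq_true, decide_eq_true_eq] at hc
  have hpc : ¬ p ∣ o.2.2 := fun h => (hc p hp o hmem).1 (Nat.mod_eq_zero_of_dvd h)
  have h := card_dvd_orderOf (card_sylow hn hp) ho.2 hpc (Q := fun _ => True)
    (fun _ _ h => h) (fun _ _ _ _ _ => Iff.rfl) hx₀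
  simp only [and_true, ho.1] at h
  rw [h]
  congr 2
  obtain ⟨K, hKc, hKx, -, hK⟩ := exists_compl hx₀ (ho.2 x₀ hx₀) hpc
  rw [← hKc, regCount]
  exact Nat.card_congr (Equiv.subtypeEquivRight fun g =>
    ⟨fun h => (hK g h.1).2 h.2.1, fun h => ⟨hKx g h, (hK g (hKx g h)).1 h, trivial⟩⟩)

variable [IsSimpleGroup G]

/-- The two possible configurations at `7` and at `5`. -/
theorem exists_sel (hn : Nat.card G = 175560) :
    HasOpt G 19 (1540, 6, 1) ∧ HasOpt G 11 (1596, 10, 1) ∧
      (HasOpt G 7 (4180, 3, 2) ∨ HasOpt G 7 (4180, 6, 1)) ∧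
      (HasOpt G 5 (2926, 2, 6) ∨ HasOpt G 5 (2926, 4, 3)) ∧ HasOpt G 3 (2926, 2, 10) := by
  obtain ⟨a, ha, ha'⟩ := exists_opt hn (p := 19) (by decide)
  obtain ⟨b, hb, hb'⟩ := exists_opt hn (p := 11) (by decide)
  obtain ⟨c, hc, hc'⟩ := exists_opt hn (p := 7) (by decide)
  obtain ⟨d, hd, hd'⟩ := exists_opt hn (p := 5) (by decide)
  obtain ⟨e, he, he'⟩ := exists_opt hn (p := 3) (by decide)
  set s : Sel := (a, b, c, d, e) with hs
  have htag : ∀ z ∈ s.tagged, z.1 ∈ primeList ∧ z.2 ∈ opts z.1 ∧ HasOpt G z.1 z.2 := by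
    intro z hz
    simp only [hs, Sel.tagged, List.mem_cons, List.not_mem_nil, or_false] at hz
    rcases hz with rfl | rfl | rfl | rfl | rfl
    exacts [⟨by simp [primeList], ha, ha'⟩, ⟨by simp [primeList], hb, hb'⟩,
      ⟨by simp [primeList], hc, hc'⟩, ⟨by simp [primeList], hd, hd'⟩, ⟨by simp [primeList], he, he'⟩]
  have hsym : s.symmOK = true := by
    simp only [Sel.symmOK, List.all_eq_true, Bool.or_eq_true, decide_eq_true_eq, beq_iff_eq,
      decide_eq_decide]
    intro x hx y hy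
    by_cases hxy : x.1 = y.1
    · exact Or.inl hxy
    refine Or.inr ?_
    obtain ⟨hxp, -, hxo⟩ := htag x hx
    obtain ⟨hyp, -, hyo⟩ := htag y hy
    have p1 := (sieve_all hxp).1
    have p2 := (sieve_all hyp).1
    rw [← Nat.dvd_iff_mod_eq_zero, ← Nat.dvd_iff_mod_eq_zero]
    exact ⟨linked_symm p1 p2 hxy hxo hyo (exists_orderOf_eq hn hxp),
      linked_symm p2 p1 (Ne.symm hxy) hyo hxo (exists_orderOf_eq hn hyp)⟩
  have hcnt : s.countOK = true := by
    simp only [Sel.countOK, List.all_eq_true, Bool.or_eq_true, List.any_eq_true, decide_eq_true_eq,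
      Bool.and_eq_true, List.mem_sublists]
    intro L hL
    by_contra hcon
    simp only [not_or, not_exists, not_and] at hcon
    obtain ⟨hno, hbig⟩ := hcon
    refine hbig ?_
    have hnd : L.Nodup := hL.nodup (List.Nodup.of_map Prod.fst (by simp [hs, Sel.tagged]))
    rw [← List.sum_toFinset _ hnd]
    have := Fintype.ofFinite G
    have hdisj : ((L.toFinset : Finset _) : Set (ℕ × (ℕ × ℕ × ℕ))).PairwiseDisjoint
        (fun a => Finset.univ.filter fun g : G => a.1 ∣ orderOf g) := by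
      intro x hx y hy hne
      simp only [Function.onFun, Finset.disjoint_left, Finset.mem_filter, Finset.mem_univ, true_and]
      intro g h1 h2
      rw [Finset.mem_coe, List.mem_toFinset] at hx hy
      have hxy : x.1 ≠ y.1 := fun h => hne (List.inj_on_of_nodup_map (f := Prod.fst)
        (by simp [hs, Sel.tagged] : (s.tagged.map Prod.fst).Nodup) (hL.subset hx) (hL.subset hy) h)
      exact hno x hx y hy hxy (Nat.mod_eq_zero_of_dvd (linked (sieve_all (htag x (hL.subset hx)).1).1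
        (sieve_all (htag y (hL.subset hy)).1).1 hxy (htag x (hL.subset hx)).2.2 h1 h2))
    have hsum : ∑ x ∈ L.toFinset, x.2.1 * ((x.1 - 1) * x.2.2.2) =
        (L.toFinset.biUnion fun a => Finset.univ.filter fun g : G => a.1 ∣ orderOf g).card := by
      rw [Finset.card_biUnion hdisj]
      refine Finset.sum_congr rfl fun x hx => ?_
      obtain ⟨h1, h2, h3⟩ := htag x (hL.subset (List.mem_toFinset.1 hx))
      rw [← card_dvd hn h1 h2 h3, Nat.card_eq_fintype_card, Fintype.card_subtype]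
    rw [hsum, ← hn, Nat.card_eq_fintype_card, ← Finset.card_univ]
    refine Finset.card_lt_card (Finset.ssubset_iff_subset_ne.2 ⟨Finset.subset_univ _, fun h => ?_⟩)
    have h1 := h ▸ Finset.mem_univ (1 : G)
    simp only [Finset.mem_biUnion, Finset.mem_filter, orderOf_one, Nat.dvd_one] at h1
    obtain ⟨z, hz, -, hz1⟩ := h1
    exact (sieve_all (htag z (hL.subset (List.mem_toFinset.1 hz))).1).1.ne_one hz1
  have hgood : s.good = true := by
    have h := sieve_table
    simp only [List.all_eq_true] at h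
    have h' := h a ha b hb c hc d hd e he
    simp only [← hs, hsym, hcnt, Bool.and_true, Bool.not_true, Bool.false_or] at h'
    exact h'
  simp only [Sel.good, hs, Bool.and_eq_true, Bool.or_eq_true, decide_eq_true_eq] at hgood
  obtain ⟨⟨⟨⟨g1, g2⟩, g3⟩, g4⟩, g5⟩ := hgood
  subst g1 g2 g5
  refine ⟨ha', hb', ?_, ?_, he'⟩
  · rcases g3 with rfl | rfl
    · exact Or.inl hc'
    · exact Or.inr hc'
  · rcases g4 with rfl | rfl
    · exact Or.inl hd'
    · exact Or.inr hd'

omit [IsSimpleGroup G] in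
theorem prime_factor_mem (hn : Nat.card G = 175560) {g : G} {r : ℕ} (hr : r.Prime)
    (h : r ∣ orderOf g) : r = 2 ∨ r ∈ primeList := by
  have h' : r ∣ 2 ^ 3 * (3 * (5 * (7 * (11 * 19)))) := by
    have := h.trans (orderOf_dvd_natCard g)
    rwa [hn] at this
  simp only [Nat.Prime.dvd_mul hr] at h'
  simp only [primeList, List.mem_cons, List.not_mem_nil, or_false]
  rcases h' with h' | h' | h' | h' | h' | h'
  · exact Or.inl ((Nat.prime_dvd_prime_iff_eq hr Nat.prime_two).1 (hr.dvd_of_dvd_pow h'))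
  all_goals have := (Nat.prime_dvd_prime_iff_eq hr (by norm_num)).1 h'; omega

/-- The nontrivial `2`-elements. -/
def twoElts (G : Type u) [Group G] : Set G := {g | g ≠ 1 ∧ ∀ p ∈ primeList, ¬ p ∣ orderOf g}

/-- The elements of order divisible by `5` and not by `3` are counted from an element of order five. -/
theorem exists_count (hn : Nat.card G = 175560) :
    ∃ c₇ c₅ d : ℕ, (c₇ = 1 ∨ c₇ = 2) ∧ (c₅ = 3 ∨ c₅ = 6) ∧ 1 ≤ d ∧ d ≤ c₅ ∧
      (∀ x : G, orderOf x = 7 → Nat.card (Subgroup.centralizer ({x} : Set G)) = 7 * c₇) ∧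
      (∀ x : G, orderOf x = 5 → Nat.card (Subgroup.centralizer ({x} : Set G)) = 5 * c₅ ∧
        regCount 5 (fun g => ¬ 3 ∣ orderOf g) x = d) ∧
      Nat.card (twoElts G) + 25080 * c₇ + 11704 * d = 73359 := by
  obtain ⟨h19, h11, h7, h5, h3⟩ := exists_sel hn
  obtain ⟨c₇, hc₇, o7, hm7, h7'', h7n, h7c⟩ : ∃ c₇, (c₇ = 1 ∨ c₇ = 2) ∧ ∃ o ∈ opts 7, HasOpt G 7 o ∧ o.1 = 4180 ∧ o.2.2 = c₇ := by
    rcases h7 with h | h
    · exact ⟨2, Or.inr rfl, _, by decide, h, rfl, rfl⟩
    · exact ⟨1, Or.inl rfl, _, by decide, h, rfl, rfl⟩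
  obtain ⟨c₅, hc₅, h5c, h5n⟩ : ∃ c₅, (c₅ = 3 ∨ c₅ = 6) ∧
      (∀ x : G, orderOf x = 5 → Nat.card (Subgroup.centralizer ({x} : Set G)) = 5 * c₅) ∧
      Nat.card (Sylow 5 G) = 2926 := by
    rcases h5 with h | h
    · exact ⟨6, Or.inr rfl, h.2, h.1⟩
    · exact ⟨3, Or.inl rfl, h.2, h.1⟩
  have := Fact.mk (show Nat.Prime 5 by norm_num)
  have h5c' : ¬ 5 ∣ c₅ := by omega
  obtain ⟨x₀, hx₀⟩ := exists_orderOf_eq hn (p := 5) (by decide)
  set Q : G → Prop := fun g => ¬ 3 ∣ orderOf g with hQdef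
  have hQc : ∀ g h : G, Q g → Q (h * g * h⁻¹) := fun g h hg => by
    show ¬ _
    rwa [show orderOf (h * g * h⁻¹) = orderOf g from MulEquiv.orderOf_eq (MulAut.conj h) g]
  have hQx : ∀ a k : G, orderOf a = 5 → a * k = k * a → ¬ 5 ∣ orderOf k → (Q (a * k) ↔ Q k) := by
    intro a k ha hc hk
    rw [hQdef]
    show ¬ _ ↔ ¬ _
    rw [(show Commute a k from hc).orderOf_mul_eq_mul_orderOf_of_coprime (by
      rw [ha]; exact (Nat.Prime.coprime_iff_not_dvd (by norm_num)).2 hk), ha,
      (Nat.Coprime.dvd_mul_left (by norm_num : Nat.Coprime 3 5))]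
  refine ⟨c₇, c₅, regCount 5 Q x₀, hc₇, hc₅, ?_, ?_, fun x hx => by rw [h7''.2 x hx, h7c],
    fun x hx => ⟨h5c x hx, ?_⟩, ?_⟩
  · exact Nat.card_pos_iff.2 ⟨⟨⟨1, by simp, by simp, by simp [hQdef]⟩⟩, inferInstance⟩
  · obtain ⟨K, hKc, hKx, -, hK⟩ := exists_compl hx₀ (h5c x₀ hx₀) h5c'
    rw [← hKc, regCount]
    exact Nat.card_le_card_of_injective (fun g => (⟨g.1, (hK g g.2.1).2 g.2.2.1⟩ : K))
      fun a b h => Subtype.ext (congrArg (fun z : K => (z : G)) h)
  · obtain ⟨P⟩ : Nonempty (Sylow 5 G) := inferInstance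
    obtain ⟨Q₁, hQ₁⟩ := (IsPGroup.of_card (n := 1) (by rw [Nat.card_zpowers, hx, pow_one]) :
      IsPGroup 5 (Subgroup.zpowers x)).exists_le_sylow
    obtain ⟨Q₀, hQ₀⟩ := (IsPGroup.of_card (n := 1) (by rw [Nat.card_zpowers, hx₀, pow_one]) :
      IsPGroup 5 (Subgroup.zpowers x₀)).exists_le_sylow
    obtain ⟨h, hh⟩ := MulAction.exists_smul_eq G Q₁ Q₀
    have hmem : h * x * h⁻¹ ∈ Q₀ := by
      rw [← hh]; exact ⟨x, hQ₁ (Subgroup.mem_zpowers x), rfl⟩
    have ho : orderOf (h * x * h⁻¹) = 5 := (MulEquiv.orderOf_eq (MulAut.conj h) x).trans hx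
    rw [← regCount_conj hQc x h]
    refine Nat.card_congr (Equiv.subtypeEquivRight fun g => and_congr_left fun _ => ?_)
    rw [← Subgroup.mem_centralizer_singleton_iff, ← centralizer_zpowers_eq,
      ← sylow_eq_zpowers Q₀ (card_sylow hn (by decide) Q₀) hmem ho,
      sylow_eq_zpowers Q₀ (card_sylow hn (by decide) Q₀) (hQ₀ (Subgroup.mem_zpowers x₀)) hx₀,
      centralizer_zpowers_eq, Subgroup.mem_centralizer_singleton_iff]
  · have := Fintype.ofFinite G
    have e19 := card_dvd hn (p := 19) (by decide) (by decide) h19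
    have e11 := card_dvd hn (p := 11) (by decide) (by decide) h11
    have e7 := card_dvd hn (p := 7) (by decide) hm7 h7''
    have e3 := card_dvd hn (p := 3) (by decide) (by decide) h3
    have e5 := card_dvd_orderOf (p := 5) (fun P => card_sylow hn (by decide) P) h5c h5c' hQc hQx hx₀
    rw [h7n, h7c] at e7
    rw [h5n] at e5
    simp only [Nat.card_eq_fintype_card, Fintype.card_subtype] at e19 e11 e7 e3 e5
    rw [Nat.card_coe_set_eq, Set.ncard_eq_toFinset_card']
    -- the disjoint classes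
    have l19 : ∀ {g : G} {q : ℕ}, q.Prime → q ≠ 19 → 19 ∣ orderOf g → ¬ q ∣ orderOf g :=
      fun {g q} hq hne h1 h2 => hq.ne_one (Nat.dvd_one.1 (linked (by norm_num) hq hne.symm h19 h1 h2))
    have l11 : ∀ {g : G} {q : ℕ}, q.Prime → q ≠ 11 → 11 ∣ orderOf g → ¬ q ∣ orderOf g :=
      fun {g q} hq hne h1 h2 => hq.ne_one (Nat.dvd_one.1 (linked (by norm_num) hq hne.symm h11 h1 h2))
    have l7 : ∀ {g : G} {q : ℕ}, q.Prime → q ≠ 7 → q ≠ 2 → 7 ∣ orderOf g → ¬ q ∣ orderOf g := by
      intro g q hq hne hne2 h1 h2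
      have h := linked (by norm_num) hq hne.symm h7'' h1 h2
      rw [h7c] at h
      rcases hc₇ with e | e <;> rw [e] at h
      · exact hq.ne_one (Nat.dvd_one.1 h)
      · exact hne2 ((Nat.prime_dvd_prime_iff_eq hq Nat.prime_two).1 h)
    set R := (twoElts G).toFinset
    set A := Finset.univ.filter fun g : G => 19 ∣ orderOf g with hA
    set B := Finset.univ.filter fun g : G => 11 ∣ orderOf g with hB
    set C := Finset.univ.filter fun g : G => 7 ∣ orderOf g with hC'
    set D := Finset.univ.filter fun g : G => 3 ∣ orderOf g with hD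
    set E := Finset.univ.filter fun g : G => 5 ∣ orderOf g ∧ Q g with hE
    have hR : ∀ g : G, g ∈ R ↔ g ≠ 1 ∧ ∀ p ∈ primeList, ¬ p ∣ orderOf g := fun g => Set.mem_toFinset
    have hone : ∀ g : G, (if g = 1 then 1 else 0) + (if g ∈ R then 1 else 0) + (if g ∈ A then 1 else 0) +
        (if g ∈ B then 1 else 0) + (if g ∈ C then 1 else 0) + (if g ∈ D then 1 else 0) +
        (if g ∈ E then 1 else 0) = 1 := by
      intro g
      simp only [hR, hA, hB, hC', hD, hE, hQdef, Finset.mem_filter, Finset.mem_univ, true_and,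
        primeList, List.forall_mem_cons, List.not_mem_nil, IsEmpty.forall_iff, implies_true, and_true]
      by_cases h1 : g = 1
      · simp [h1]
      by_cases a : 19 ∣ orderOf g
      · simp [h1, a, l19 (q := 11) (by norm_num) (by norm_num) a, l19 (q := 7) (by norm_num) (by norm_num) a,
          l19 (q := 5) (by norm_num) (by norm_num) a, l19 (q := 3) (by norm_num) (by norm_num) a]
      by_cases b : 11 ∣ orderOf g
      · simp [h1, a, b, l11 (q := 7) (by norm_num) (by norm_num) b,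
          l11 (q := 5) (by norm_num) (by norm_num) b, l11 (q := 3) (by norm_num) (by norm_num) b]
      by_cases c : 7 ∣ orderOf g
      · simp [h1, a, b, c, l7 (q := 5) (by norm_num) (by norm_num) (by norm_num) c,
          l7 (q := 3) (by norm_num) (by norm_num) (by norm_num) c]
      by_cases d : 3 ∣ orderOf g
      · simp [h1, a, b, c, d]
      by_cases e : 5 ∣ orderOf g <;> simp [h1, a, b, c, d, e]
    have h1 : Fintype.card G = 1 + R.card + A.card + B.card + C.card + D.card + E.card := by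
      have h := Finset.sum_congr (s₁ := (Finset.univ : Finset G)) rfl fun g _ => hone g
      simp only [Finset.sum_add_distrib, Finset.sum_const, smul_eq_mul, mul_one, Finset.card_univ,
        Finset.sum_boole, Nat.cast_id, Finset.filter_univ_mem] at h
      rw [← h]
      congr 6
      exact Finset.card_eq_one.2 ⟨1, by ext; simp⟩
    rw [← Nat.card_eq_fintype_card, hn, e19, e11, e7, e3, e5] at h1
    omega

end CfsgLib.KnownA.OneSevenFive
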